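import Cfsg.Agent.Lib.Char.SectionParity.Layout

/-!
# The correspondence over a fixed invariant character below the section
-/

set_option autoImplicit false
set_option linter.unusedSectionVars false
set_option linter.style.haveILetI false

namespace Cfsg.Lib.Char.SectionParity

open Cfsg Module Cfsg.Lib.Char
open scoped ComplexConjugate

universe u v w

/-- A constituent of a constituent is a constituent. -/
theorem classInner_ne_zero_trans {H : Type u} [Group H] [Fintype H] {L : Type w} [Group L]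
    [Fintype L] (ι : L →* H) {f : H → ℂ} (hf : IsCharacter H f) {b : H → ℂ}
    (hb : IsIrrCharacter H b) (h1 : classInner f b ≠ 0) {θ : L → ℂ} (hθ : IsIrrCharacter L θ)
    (h2 : classInner (fun l => b (ι l)) θ ≠ 0) : classInner (fun l => f (ι l)) θ ≠ 0 := by
  choose n hn using fun χ : IrrCharacter H => hf.exists_nat_classInner χ.2.isCharacter
  choose k hk using fun χ : IrrCharacter H =>
    (χ.2.isCharacter.comp ι).exists_nat_classInner hθ.isCharacter
  have hfl : (fun l => f (ι l)) = ∑ χ : IrrCharacter H, (n χ : ℂ) •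
      (fun l => (χ : H → ℂ) (ι l)) := by
    funext l
    conv_lhs => rw [eq_sum_classInner hf.isClassFunction]
    simp [hn, Finset.sum_apply]
  rw [hfl, classInner_sum_left]
  simp only [classInner_smul_left, hk]
  intro h0
  have h3 : (∑ χ, n χ * k χ) = 0 := by exact_mod_cast h0
  rcases mul_eq_zero.mp (Finset.sum_eq_zero_iff.mp h3 ⟨b, hb⟩ (Finset.mem_univ _)) with h4 | h4
  · exact h1 (by rw [hn ⟨b, hb⟩, h4, Nat.cast_zero])
  · exact h2 (by rw [hk ⟨b, hb⟩, h4, Nat.cast_zero])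

/-- Induction commutes with an automorphism preserving the subgroup. -/
theorem indFun_comp_aut {G : Type u} [Group G] [Fintype G] (e : G ≃* G) (T : Subgroup G)
    (hT : ∀ g, e g ∈ T ↔ g ∈ T) (η : T → ℂ) (g : G) :
    indFun T η (e g) = indFun T (fun t => η ⟨e t, (hT t).mpr t.2⟩) g := by
  unfold indFun
  congr 1
  refine (Fintype.sum_equiv e.toEquiv _ _ fun x => ?_).symm
  show extendByZero T _ (x⁻¹ * g * x) = extendByZero T η ((e x)⁻¹ * e g * e x)
  rw [← map_inv, ← map_mul, ← map_mul]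
  by_cases hx : x⁻¹ * g * x ∈ T
  · rw [extendByZero_of_mem T _ hx, extendByZero_of_mem T η ((hT _).mpr hx)]
  · rw [extendByZero_of_notMem T _ hx, extendByZero_of_notMem T η fun h => hx ((hT _).mp h)]

variable {G : Type u} [Group G] [Fintype G] {S : Type v} [Group S] [Fintype S]

/-- Invariance of a function on the group. -/
def Layout.InvG (D : Layout G S) (χ : G → ℂ) : Prop := ∀ s g, χ (D.φ s g) = χ g

theorem Layout.φ_mem_H (D : Layout G S) (s : S) {h : G} (hh : h ∈ D.H) : D.φ s h ∈ D.H := by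
  have h1 := D.H.mul_mem (D.L_le_H (D.triv s h hh)) hh
  rwa [inv_mul_cancel_right] at h1

/-- Invariance of a function on the complement. -/
def Layout.InvH (D : Layout G S) (ψ : D.H → ℂ) : Prop :=
  ∀ s (h : D.H), ψ ⟨D.φ s h, D.φ_mem_H s h.2⟩ = ψ h

/-- Lying over a character of the bottom subgroup. -/
def Layout.OverG (D : Layout G S) (χ : G → ℂ) (θ : D.L → ℂ) : Prop :=
  classInner (fun l : D.L => χ (l : G)) θ ≠ 0

/-- Lying over a character of the bottom subgroup. -/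
def Layout.OverH (D : Layout G S) (ψ : D.H → ℂ) (θ : D.L → ℂ) : Prop :=
  classInner (fun l : D.L => ψ ⟨(l : G), D.L_le_H l.2⟩) θ ≠ 0

/-- Odd multiplicity. -/
def Layout.OddMult (D : Layout G S) (χ : G → ℂ) (ψ : D.H → ℂ) : Prop :=
  ∃ m : ℕ, classInner (fun h : D.H => χ (h : G)) ψ = (m : ℂ) ∧ Odd m

theorem Layout.overG_trans (D : Layout G S) {χ : G → ℂ} (hχ : IsCharacter G χ) {ψ : D.H → ℂ}
    (hψ : IsIrrCharacter D.H ψ) (hm : D.OddMult χ ψ) {θ : D.L → ℂ} (hθ : IsIrrCharacter D.L θ)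
    (ho : D.OverH ψ θ) : D.OverG χ θ := by
  obtain ⟨m, hm, hmo⟩ := hm
  refine classInner_ne_zero_trans (Subgroup.inclusion D.L_le_H)
    (f := fun h : D.H => χ (h : G)) (hχ.comp D.H.subtype) hψ ?_ hθ ho
  rw [hm]
  exact Nat.cast_ne_zero.mpr hmo.pos.ne'

/-- Over one invariant constituent means over any other one. -/
theorem Layout.overH_transfer (D : Layout G S) {χ : G → ℂ} (hχ : IsIrrCharacter G χ)
    {θ θ' : D.L → ℂ} (hθ : IsIrrCharacter D.L θ) (hθi : D.InvL θ) (hχθ : D.OverG χ θ)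
    (hθ' : IsIrrCharacter D.L θ') (hθ'i : D.InvL θ') (hχθ' : D.OverG χ θ') {ψ : D.H → ℂ}
    (hψ : IsClassFunction D.H ψ) (ho : D.OverH ψ θ') : D.OverH ψ θ := by
  obtain ⟨g, hg⟩ := (mem_twistOrbit D.L).mp
    (mem_twistOrbit_of_constituent D.L hχ hθ hθ' hχθ hχθ')
  obtain ⟨h, hh, hhθ⟩ := D.exists_conj_in_H hθ.isClassFunction hθi hθ'i hg
  unfold Layout.OverH at ho ⊢
  have hres : conjTwist D.L (fun l : D.L => ψ ⟨(l : G), D.L_le_H l.2⟩) h =
      fun l : D.L => ψ ⟨(l : G), D.L_le_H l.2⟩ :=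
    funext fun l => hψ ⟨(l : G), D.L_le_H l.2⟩ ⟨h, hh⟩
  rw [← hhθ] at ho
  rwa [← classInner_conjTwist D.L _ θ h, hres]

/-- A layout with an invariant character of the bottom subgroup. -/
structure Anchor (G : Type u) [Group G] [Fintype G] (S : Type v) [Group S] where
  D : Layout G S
  θ : D.L → ℂ
  irr : IsIrrCharacter D.L θ
  invL : D.InvL θ

variable (A : Anchor G S)

/-- The inertia group. -/
def Anchor.T : Subgroup G := inertia A.D.L A.θ

theorem Anchor.T_def : A.T = inertia A.D.L A.θ := rfl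

theorem Anchor.L_le_T : A.D.L ≤ A.T := le_inertia A.D.L A.irr.isClassFunction

theorem Anchor.φ_mem_T (s : S) {g : G} (hg : g ∈ A.T) : A.D.φ s g ∈ A.T :=
  A.D.op_mem_inertia A.invL s hg

theorem Anchor.φ_mem_T_iff (s : S) (g : G) : A.D.φ s g ∈ A.T ↔ g ∈ A.T := by
  refine ⟨fun h => ?_, A.φ_mem_T s⟩
  have := A.φ_mem_T s⁻¹ h
  rwa [A.D.φ_inv_apply] at this

noncomputable instance : Fintype A.T := Fintype.ofFinite _
noncomputable instance : Fintype (A.D.L.subgroupOf A.T) := Fintype.ofFinite _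
noncomputable instance : Fintype (A.D.L.subgroupOf A.D.H) := Fintype.ofFinite _
noncomputable instance : Fintype (A.T.subgroupOf A.D.H) := Fintype.ofFinite _

/-- An operator on the inertia group. -/
noncomputable def Anchor.φT : S →* MulAut A.T where
  toFun s :=
    { toFun := fun t => ⟨A.D.φ s t, A.φ_mem_T s t.2⟩
      invFun := fun t => ⟨A.D.φ s⁻¹ t, A.φ_mem_T s⁻¹ t.2⟩
      left_inv := fun t => Subtype.ext (A.D.φ_inv_apply s t)
      right_inv := fun t => Subtype.ext (A.D.φ_apply_inv s t)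
      map_mul' := fun a b => Subtype.ext (map_mul (A.D.φ s) (a : G) (b : G)) }
  map_one' := MulEquiv.ext fun t => Subtype.ext (by show A.D.φ 1 t = t; rw [map_one]; rfl)
  map_mul' s s' := MulEquiv.ext fun t => Subtype.ext (by
    show A.D.φ (s * s') t = A.D.φ s (A.D.φ s' t)
    rw [map_mul]; rfl)

/-- A representation affording the bottom character, on the subgroup of the inertia group. -/
theorem Anchor.exists_rep : ∃ (m : ℕ) (σ : Representation ℂ (A.D.L.subgroupOf A.T) (Fin m → ℂ)),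
    σ.IsIrreducible ∧ σ.character = resTo A.D.L A.θ A.T :=
  isIrrCharacter_resTo A.D.L A.irr A.L_le_T

/-- The bottom of the configuration in the inertia group. -/
noncomputable def Anchor.below : Below A.T where
  L := A.D.L.subgroupOf A.T
  normal := A.D.nL.subgroupOf A.T
  m := A.exists_rep.choose
  σ := A.exists_rep.choose_spec.choose
  irr := A.exists_rep.choose_spec.choose_spec.1
  inv g l l' h := by
    rw [A.exists_rep.choose_spec.choose_spec.2]
    simp only [resTo]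
    have hg : conjTwist A.D.L A.θ (g : G) = A.θ := g.2
    conv_rhs => rw [← hg]
    rw [conjTwist_apply]
    refine congrArg A.θ (Subtype.ext ?_)
    show ((l' : A.T) : G) = (g : G) * ((l : A.T) : G) * (g : G)⁻¹
    rw [h]; rfl

theorem Anchor.below_char : A.below.σ.character = resTo A.D.L A.θ A.T :=
  A.exists_rep.choose_spec.choose_spec.2

/-- The configuration in the inertia group. -/
noncomputable def Anchor.cfg : Config A.T S where
  B := A.below
  Y :=
    { K := A.D.K.subgroupOf A.T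
      normal := A.D.nK.subgroupOf A.T
      le := fun _ hl => Subgroup.mem_subgroupOf.mpr (A.D.le (Subgroup.mem_subgroupOf.mp hl))
      comm := fun a ha b hb => Subgroup.mem_subgroupOf.mpr
        (A.D.comm a (Subgroup.mem_subgroupOf.mp ha) b (Subgroup.mem_subgroupOf.mp hb))
      odd := A.D.odd.of_dvd_nat (Subgroup.card_subgroup_dvd_card _) }
  H := A.D.H.subgroupOf A.T
  inf := by
    show A.D.K.subgroupOf A.T ⊓ A.D.H.subgroupOf A.T = A.D.L.subgroupOf A.T
    ext t
    simp only [Subgroup.mem_inf, Subgroup.mem_subgroupOf, ← A.D.inf]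
  top g := by
    obtain ⟨k, hk, h, hh, hkT, hhT, he⟩ := A.D.exists_decomp A.irr.isClassFunction A.invL g.2
    exact ⟨⟨k, hkT⟩, hk, ⟨h, hhT⟩, hh, Subtype.ext he⟩
  φ := A.φT
  mapL s l hl := Subgroup.mem_subgroupOf.mpr (A.D.mapL s l (Subgroup.mem_subgroupOf.mp hl))
  mapK s k hk := Subgroup.mem_subgroupOf.mpr (A.D.mapK s k (Subgroup.mem_subgroupOf.mp hk))
  inv s l l' h := by
    rw [A.below_char]
    refine Eq.trans (congrArg A.θ (Subtype.ext ?_))
      (A.invL s ⟨((l : A.T) : G), Subgroup.mem_subgroupOf.mp l.2⟩)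
    exact (congrArg (fun t : A.T => (t : G)) h :)
  triv s h hh := Subgroup.mem_subgroupOf.mpr (A.D.triv s h (Subgroup.mem_subgroupOf.mp hh))
  coprime := A.D.coprime.coprime_dvd_right (Subgroup.card_subgroup_dvd_card _)
  free k hk h := Subgroup.mem_subgroupOf.mpr (A.D.free k (Subgroup.mem_subgroupOf.mp hk)
    fun s => Subgroup.mem_subgroupOf.mp (h s))

/-- The two readings of the intersection of the complement with the inertia group. -/
noncomputable def Anchor.e : A.T.subgroupOf A.D.H ≃* A.cfg.H where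
  toFun x := ⟨⟨((x : A.D.H) : G), x.2⟩, (x : A.D.H).2⟩
  invFun y := ⟨⟨((y : A.T) : G), y.2⟩, (y : A.T).2⟩
  left_inv _ := rfl
  right_inv _ := rfl
  map_mul' _ _ := rfl

theorem Anchor.inertia_H :
    A.T.subgroupOf A.D.H = inertia (A.D.L.subgroupOf A.D.H) (resTo A.D.L A.θ A.D.H) := by
  ext h
  rw [Subgroup.mem_subgroupOf, A.T_def, mem_inertia_iff, mem_inertia_iff]
  constructor
  · exact fun hh l => hh ⟨((l : A.D.H) : G), Subgroup.mem_subgroupOf.mp l.2⟩
  · exact fun hh l => hh ⟨⟨(l : G), A.D.L_le_H l.2⟩, Subgroup.mem_subgroupOf.mpr l.2⟩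

theorem Anchor.LH_le : A.D.L.subgroupOf A.D.H ≤ A.T.subgroupOf A.D.H := fun _ hl =>
  Subgroup.mem_subgroupOf.mpr (A.L_le_T (Subgroup.mem_subgroupOf.mp hl))

/-- Lying over the bottom character, in the inertia group. -/
def Anchor.OverT (a : A.T → ℂ) : Prop :=
  classInner (fun l : A.D.L => a ⟨(l : G), A.L_le_T l.2⟩) A.θ ≠ 0

/-- Lying over the bottom character, in the complement inside the inertia group. -/
def Anchor.OverI (b : A.cfg.H → ℂ) : Prop :=
  classInner (fun l : A.D.L => b ⟨⟨(l : G), A.L_le_T l.2⟩, A.D.L_le_H l.2⟩) A.θ ≠ 0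

theorem Anchor.overG_of_overT {a : A.T → ℂ} (ha : IsIrrCharacter A.T a) (h : A.OverT a) :
    A.cfg.OverG a := by
  refine ⟨classInner (fun l : A.D.L => a ⟨(l : G), A.L_le_T l.2⟩) A.θ, fun l => ?_⟩
  have h1 := congrFun (res_eq_smul A.D.L A.irr A.L_le_T A.T_def ha h)
    ⟨((l : A.T) : G), Subgroup.mem_subgroupOf.mp l.2⟩
  show a (l : A.T) = _ * A.below.σ.character l
  rw [A.below_char]
  exact h1

theorem Anchor.overT_of_overG {a : A.T → ℂ} (ha : IsIrrCharacter A.T a) (h : A.cfg.OverG a) :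
    A.OverT a := by
  obtain ⟨c, hc⟩ := h
  have h1 : (fun l : A.D.L => a ⟨(l : G), A.L_le_T l.2⟩) = c • A.θ := funext fun l => by
    have h2 : a ⟨(l : G), A.L_le_T l.2⟩ = c * A.below.σ.character
      ⟨⟨(l : G), A.L_le_T l.2⟩, Subgroup.mem_subgroupOf.mpr l.2⟩ :=
        hc ⟨⟨(l : G), A.L_le_T l.2⟩, Subgroup.mem_subgroupOf.mpr l.2⟩
    rw [A.below_char] at h2
    exact h2
  intro h0
  rw [h1, classInner_smul_left, classInner_irr_self A.irr, mul_one] at h0
  have := congrFun h1 1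
  rw [h0, zero_smul] at this
  exact ha.apply_one_ne_zero this

/-- Induction to the complement from its part in the inertia group. -/
noncomputable def Anchor.upH (b : A.cfg.H → ℂ) : A.D.H → ℂ :=
  indFun (A.T.subgroupOf A.D.H) fun x => b (A.e x)

theorem Anchor.overI_iff (b : A.cfg.H → ℂ) :
    classInner (fun l : A.D.L.subgroupOf A.D.H => b (A.e ⟨l, A.LH_le l.2⟩))
      (resTo A.D.L A.θ A.D.H) ≠ 0 ↔ A.OverI b := by
  unfold Anchor.OverI
  rw [← classInner_comp_equiv (Subgroup.subgroupOfEquivOfLe A.D.L_le_H)]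
  rfl

theorem Anchor.overH_iff (ψ : A.D.H → ℂ) :
    classInner (fun l : A.D.L.subgroupOf A.D.H => ψ l) (resTo A.D.L A.θ A.D.H) ≠ 0 ↔
      A.D.OverH ψ A.θ := by
  unfold Layout.OverH
  rw [← classInner_comp_equiv (Subgroup.subgroupOfEquivOfLe A.D.L_le_H)]
  rfl

theorem Anchor.overI_of_overH {b : A.cfg.H → ℂ} (hb : IsIrrCharacter A.cfg.H b)
    (h : A.cfg.OverH b) : A.OverI b := by
  obtain ⟨c, hc⟩ := h
  have h1 : (fun l : A.D.L => b ⟨⟨(l : G), A.L_le_T l.2⟩, A.D.L_le_H l.2⟩) = c • A.θ :=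
    funext fun l => by
      have h2 : b ⟨⟨(l : G), A.L_le_T l.2⟩, A.D.L_le_H l.2⟩ = c * A.below.σ.character
        ⟨⟨(l : G), A.L_le_T l.2⟩, Subgroup.mem_subgroupOf.mpr l.2⟩ :=
          hc ⟨⟨(l : G), A.L_le_T l.2⟩, Subgroup.mem_subgroupOf.mpr l.2⟩
      rw [A.below_char] at h2
      exact h2
  intro h0
  rw [h1, classInner_smul_left, classInner_irr_self A.irr, mul_one] at h0
  have := congrFun h1 1
  rw [h0, zero_smul] at this
  exact hb.apply_one_ne_zero this

theorem Anchor.isIrr_e {b : A.cfg.H → ℂ} (hb : IsIrrCharacter A.cfg.H b) :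
    IsIrrCharacter (A.T.subgroupOf A.D.H) (fun x => b (A.e x)) :=
  isIrrCharacter_comp_equiv A.e hb

theorem Anchor.overH_of_overI {b : A.cfg.H → ℂ} (hb : IsIrrCharacter A.cfg.H b)
    (h : A.OverI b) : A.cfg.OverH b := by
  refine ⟨classInner (fun l : A.D.L.subgroupOf A.D.H => b (A.e ⟨l, A.LH_le l.2⟩))
    (resTo A.D.L A.θ A.D.H), fun l => ?_⟩
  have h1 := congrFun (res_eq_smul (A.D.L.subgroupOf A.D.H)
    (isIrrCharacter_resTo A.D.L A.irr A.D.L_le_H) A.LH_le A.inertia_H (A.isIrr_e hb)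
    ((A.overI_iff b).mpr h))
    ⟨⟨((l : A.T) : G), A.D.L_le_H (Subgroup.mem_subgroupOf.mp l.2)⟩,
      Subgroup.mem_subgroupOf.mpr (Subgroup.mem_subgroupOf.mp l.2)⟩
  show _ = _ * A.below.σ.character l
  rw [A.below_char]
  exact h1

theorem Anchor.upH_irr {b : A.cfg.H → ℂ} (hb : IsIrrCharacter A.cfg.H b) (h : A.OverI b) :
    IsIrrCharacter A.D.H (A.upH b) ∧ A.D.OverH (A.upH b) A.θ := by
  obtain ⟨h1, h2⟩ := clifford_induce (A.D.L.subgroupOf A.D.H)
    (isIrrCharacter_resTo A.D.L A.irr A.D.L_le_H) A.LH_le A.inertia_H (A.isIrr_e hb)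
    ((A.overI_iff b).mpr h)
  exact ⟨h1, (A.overH_iff _).mp (by rw [Anchor.upH, h2]; exact (A.overI_iff b).mpr h)⟩

theorem Anchor.upH_injective {b b' : A.cfg.H → ℂ} (hb : IsIrrCharacter A.cfg.H b)
    (h : A.OverI b) (hb' : IsIrrCharacter A.cfg.H b') (h' : A.OverI b')
    (he : A.upH b = A.upH b') : b = b' := by
  have h1 := clifford_injective (A.D.L.subgroupOf A.D.H)
    (isIrrCharacter_resTo A.D.L A.irr A.D.L_le_H) A.LH_le A.inertia_H (A.isIrr_e hb)
    (A.isIrr_e hb') ((A.overI_iff b).mpr h) ((A.overI_iff b').mpr h') he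
  funext y
  have := congrFun h1 (A.e.symm y)
  simpa using this

theorem Anchor.exists_upH {ψ : A.D.H → ℂ} (hψ : IsIrrCharacter A.D.H ψ)
    (ho : A.D.OverH ψ A.θ) :
    ∃ b : A.cfg.H → ℂ, IsIrrCharacter A.cfg.H b ∧ A.OverI b ∧ A.upH b = ψ := by
  obtain ⟨η, hη, hηo, hup, -⟩ := clifford_exists (A.D.L.subgroupOf A.D.H)
    (isIrrCharacter_resTo A.D.L A.irr A.D.L_le_H) A.LH_le A.inertia_H hψ ((A.overH_iff ψ).mpr ho)
  have he : (fun x => η (A.e.symm (A.e x))) = η := funext fun x => by simp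
  refine ⟨fun y => η (A.e.symm y), isIrrCharacter_comp_equiv A.e.symm hη, ?_, ?_⟩
  · refine (A.overI_iff _).mp ?_
    simp only [MulEquiv.symm_apply_apply]
    exact hηo
  · unfold Anchor.upH
    rw [he, hup]

theorem Anchor.overI_twist {b : A.cfg.H → ℂ} (h : A.OverI b) (s : S) :
    A.OverI fun y => b ⟨A.φT s y, A.cfg.φ_mem_H s y.2⟩ := by
  let eL : A.D.L ≃* A.D.L :=
    { toFun := fun l => ⟨A.D.φ s l, A.D.mapL s l l.2⟩
      invFun := fun l => ⟨A.D.φ s⁻¹ l, A.D.mapL s⁻¹ l l.2⟩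
      left_inv := fun l => Subtype.ext (A.D.φ_inv_apply s l)
      right_inv := fun l => Subtype.ext (A.D.φ_apply_inv s l)
      map_mul' := fun a c => Subtype.ext (map_mul (A.D.φ s) (a : G) (c : G)) }
  unfold Anchor.OverI at h ⊢
  rw [← classInner_comp_equiv eL] at h
  rw [show (fun l => A.θ (eL l)) = A.θ from funext fun l => A.invL s l] at h
  exact h

theorem Anchor.overT_twist {a : A.T → ℂ} (h : A.OverT a) (s : S) :
    A.OverT fun t => a (A.φT s t) := by
  let eL : A.D.L ≃* A.D.L :=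
    { toFun := fun l => ⟨A.D.φ s l, A.D.mapL s l l.2⟩
      invFun := fun l => ⟨A.D.φ s⁻¹ l, A.D.mapL s⁻¹ l l.2⟩
      left_inv := fun l => Subtype.ext (A.D.φ_inv_apply s l)
      right_inv := fun l => Subtype.ext (A.D.φ_apply_inv s l)
      map_mul' := fun a c => Subtype.ext (map_mul (A.D.φ s) (a : G) (c : G)) }
  unfold Anchor.OverT at h ⊢
  rw [← classInner_comp_equiv eL] at h
  rw [show (fun l => A.θ (eL l)) = A.θ from funext fun l => A.invL s l] at h
  exact h

theorem Anchor.upT_invariant {a : A.T → ℂ} (ha : IsIrrCharacter A.T a) (ho : A.OverT a) :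
    A.D.InvG (indFun A.T a) ↔ A.cfg.InvG a := by
  have key : ∀ s g, indFun A.T a (A.D.φ s g) = indFun A.T (fun t => a (A.φT s t)) g :=
    fun s g => indFun_comp_aut (A.D.φ s) A.T (A.φ_mem_T_iff s) a g
  constructor
  · intro h s t
    have h1 : indFun A.T (fun t => a (A.φT s t)) = indFun A.T a :=
      funext fun g => (key s g).symm.trans (h s g)
    exact congrFun (clifford_injective A.D.L A.irr A.L_le_T A.T_def
      (isIrrCharacter_comp_equiv (A.φT s) ha) ha (A.overT_twist ho s) ho h1) t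
  · intro h s g
    rw [key, show (fun t => a (A.φT s t)) = a from funext fun t => h s t]

theorem Anchor.upH_invariant {b : A.cfg.H → ℂ} (hb : IsIrrCharacter A.cfg.H b) (ho : A.OverI b) :
    A.D.InvH (A.upH b) ↔ A.cfg.InvH b := by
  let eH : S → (A.D.H ≃* A.D.H) := fun s =>
    { toFun := fun h => ⟨A.D.φ s h, A.D.φ_mem_H s h.2⟩
      invFun := fun h => ⟨A.D.φ s⁻¹ h, A.D.φ_mem_H s⁻¹ h.2⟩
      left_inv := fun h => Subtype.ext (A.D.φ_inv_apply s h)
      right_inv := fun h => Subtype.ext (A.D.φ_apply_inv s h)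
      map_mul' := fun a c => Subtype.ext (map_mul (A.D.φ s) (a : G) (c : G)) }
  let eI : S → (A.cfg.H ≃* A.cfg.H) := fun s =>
    { toFun := fun y => ⟨A.φT s y, A.cfg.φ_mem_H s y.2⟩
      invFun := fun y => ⟨A.φT s⁻¹ y, A.cfg.φ_mem_H s⁻¹ y.2⟩
      left_inv := fun y => Subtype.ext (Subtype.ext (A.D.φ_inv_apply s ((y : A.T) : G)))
      right_inv := fun y => Subtype.ext (Subtype.ext (A.D.φ_apply_inv s ((y : A.T) : G)))
      map_mul' := fun a c => Subtype.ext (map_mul (A.φT s) (a : A.T) (c : A.T)) }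
  have key : ∀ (s : S) (h : A.D.H), A.upH b ⟨A.D.φ s h, A.D.φ_mem_H s h.2⟩ =
      A.upH (fun y => b ⟨A.φT s y, A.cfg.φ_mem_H s y.2⟩) h := fun s h =>
    indFun_comp_aut (eH s) (A.T.subgroupOf A.D.H) (fun g => A.φ_mem_T_iff s (g : G))
      (fun x => b (A.e x)) h
  constructor
  · intro h s y
    have h1 : A.upH (fun y => b ⟨A.φT s y, A.cfg.φ_mem_H s y.2⟩) = A.upH b :=
      funext fun x => (key s x).symm.trans (h s x)
    exact congrFun (A.upH_injective (isIrrCharacter_comp_equiv (eI s) hb) (A.overI_twist ho s)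
      hb ho h1) y
  · intro h s x
    rw [key, show (fun y : A.cfg.H => b ⟨A.φT s y, A.cfg.φ_mem_H s y.2⟩) = b from
      funext fun y => h s y]

theorem Anchor.classInner_up {a : A.T → ℂ} (ha : IsIrrCharacter A.T a) (hoa : A.OverT a)
    {b : A.cfg.H → ℂ} (hb : IsIrrCharacter A.cfg.H b) (hob : A.OverI b) :
    classInner (fun h : A.D.H => indFun A.T a (h : G)) (A.upH b) =
      classInner (fun y : A.cfg.H => a (y : A.T)) b := by
  classical
  obtain ⟨hχ, -⟩ := clifford_induce A.D.L A.irr A.L_le_T A.T_def ha hoa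
  set χ := indFun A.T a with hχdef
  have hres : IsCharacter A.T (fun t : A.T => χ t) := hχ.isCharacter.comp A.T.subtype
  have hcl : IsClassFunction A.D.H (fun h : A.D.H => χ (h : G)) :=
    (hχ.isCharacter.comp A.D.H.subtype).isClassFunction
  rw [Anchor.upH, classInner_indFun_right _ _ hcl]
  refine (classInner_comp_equiv A.e (fun y : A.cfg.H => χ ((y : A.T) : G)) b).trans ?_
  have hexp : (fun y : A.cfg.H => χ ((y : A.T) : G)) = ∑ μ : IrrCharacter A.T,
      classInner (fun t : A.T => χ t) (μ : A.T → ℂ) • (fun y : A.cfg.H => (μ : A.T → ℂ) y) := by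
    funext y
    have h1 := congrFun (eq_sum_classInner hres.isClassFunction) (y : A.T)
    simp only [Finset.sum_apply, Pi.smul_apply] at h1 ⊢
    exact h1
  rw [hexp, classInner_sum_left, Finset.sum_eq_single ⟨a, ha⟩]
  · rw [classInner_smul_left, show classInner (fun t : A.T => χ t) a = 1 by
      rw [← classInner_conj_symm, ← classInner_indFun A.T a hχ.isClassFunction, ← hχdef,
        classInner_irr_self hχ, map_one], one_mul]
  · intro μ _ hne
    rw [classInner_smul_left]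
    by_contra h0
    obtain ⟨h1, h2⟩ := mul_ne_zero_iff.mp h0
    let ι : A.D.L →* A.cfg.H :=
      { toFun := fun l => ⟨⟨(l : G), A.L_le_T l.2⟩, A.D.L_le_H l.2⟩
        map_one' := rfl
        map_mul' := fun _ _ => rfl }
    have hoμ : A.OverT (μ : A.T → ℂ) := classInner_ne_zero_trans ι
      (μ.2.isCharacter.comp A.cfg.H.subtype) hb h2 A.irr hob
    obtain ⟨hμχ, -⟩ := clifford_induce A.D.L A.irr A.L_le_T A.T_def μ.2 hoμ
    have h3 : indFun A.T (μ : A.T → ℂ) = χ := by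
      by_contra hne'
      have h4 := classInner_irr_ne hχ hμχ (Ne.symm hne')
      rw [classInner_indFun_right A.T _ hχ.isClassFunction] at h4
      exact h1 h4
    exact hne (Subtype.ext (clifford_injective A.D.L A.irr A.L_le_T A.T_def μ.2 ha hoμ hoa
      (h3.trans hχdef)))
  · exact fun h => absurd (Finset.mem_univ _) h

theorem Anchor.oddMult_iff {a : A.T → ℂ} (ha : IsIrrCharacter A.T a) (hoa : A.OverT a)
    {b : A.cfg.H → ℂ} (hb : IsIrrCharacter A.cfg.H b) (hob : A.OverI b) :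
    A.D.OddMult (indFun A.T a) (A.upH b) ↔ A.cfg.OddMult a b := by
  unfold Layout.OddMult Config.OddMult
  rw [A.classInner_up ha hoa hb hob]

theorem Anchor.exists_partner {χ : G → ℂ} (hχ : IsIrrCharacter G χ) (hi : A.D.InvG χ)
    (ho : A.D.OverG χ A.θ) :
    ∃ ψ : A.D.H → ℂ, IsIrrCharacter A.D.H ψ ∧ A.D.InvH ψ ∧ A.D.OverH ψ A.θ ∧ A.D.OddMult χ ψ ∧
      ∀ ψ', IsIrrCharacter A.D.H ψ' → A.D.OverH ψ' A.θ → A.D.OddMult χ ψ' → ψ' = ψ := by
  obtain ⟨a, ha, hoa, rfl, -⟩ := clifford_exists A.D.L A.irr A.L_le_T A.T_def hχ ho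
  have hia := (A.upT_invariant ha hoa).mp hi
  have hGa := A.overG_of_overT ha hoa
  obtain ⟨μ, hμi, hμ⟩ := A.cfg.exists_partner ha hia hGa
  have hμm := (hμ μ).mpr rfl
  obtain ⟨m, hm, hodd⟩ := hμm
  let ι : A.below.L →* A.cfg.H :=
    { toFun := fun l => ⟨(l : A.T), A.cfg.L_le_H l.2⟩
      map_one' := rfl
      map_mul' := fun _ _ => rfl }
  have hoμ : A.OverI (μ : A.cfg.H → ℂ) := A.overI_of_overH μ.2 (over_of_constituent ι
    (isIrrCharacter_character A.below.σ) (ha.isCharacter.comp A.cfg.H.subtype) hGa μ.2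
    (by rw [show (fun h : A.cfg.H => a (A.cfg.H.subtype h)) = fun h : A.cfg.H => a h from rfl, hm]
        exact Nat.cast_ne_zero.mpr hodd.pos.ne'))
  obtain ⟨h1, h2⟩ := A.upH_irr μ.2 hoμ
  refine ⟨A.upH μ, h1, (A.upH_invariant μ.2 hoμ).mpr hμi, h2,
    (A.oddMult_iff ha hoa μ.2 hoμ).mpr ((hμ μ).mpr rfl), fun ψ' hψ' ho' hm' => ?_⟩
  obtain ⟨b, hb, hob, rfl⟩ := A.exists_upH hψ' ho'
  have := (hμ ⟨b, hb⟩).mp ((A.oddMult_iff ha hoa hb hob).mp hm')
  rw [← this]

theorem Anchor.partner_injective {χ χ' : G → ℂ} (hχ : IsIrrCharacter G χ) (hi : A.D.InvG χ)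
    (ho : A.D.OverG χ A.θ) (hχ' : IsIrrCharacter G χ') (hi' : A.D.InvG χ')
    (ho' : A.D.OverG χ' A.θ) {ψ : A.D.H → ℂ} (hψ : IsIrrCharacter A.D.H ψ)
    (hoψ : A.D.OverH ψ A.θ) (h : A.D.OddMult χ ψ) (h' : A.D.OddMult χ' ψ) : χ = χ' := by
  obtain ⟨a, ha, hoa, rfl, -⟩ := clifford_exists A.D.L A.irr A.L_le_T A.T_def hχ ho
  obtain ⟨a', ha', hoa', rfl, -⟩ := clifford_exists A.D.L A.irr A.L_le_T A.T_def hχ' ho'
  obtain ⟨b, hb, hob, rfl⟩ := A.exists_upH hψ hoψ
  rw [A.cfg.partner_injective ha ((A.upT_invariant ha hoa).mp hi) (A.overG_of_overT ha hoa)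
    ha' ((A.upT_invariant ha' hoa').mp hi') (A.overG_of_overT ha' hoa') ⟨b, hb⟩
    ((A.oddMult_iff ha hoa hb hob).mp h) ((A.oddMult_iff ha' hoa' hb hob).mp h')]

theorem Anchor.partner_surjective {ψ : A.D.H → ℂ} (hψ : IsIrrCharacter A.D.H ψ)
    (hi : A.D.InvH ψ) (ho : A.D.OverH ψ A.θ) :
    ∃ χ : G → ℂ, IsIrrCharacter G χ ∧ A.D.InvG χ ∧ A.D.OddMult χ ψ := by
  obtain ⟨b, hb, hob, rfl⟩ := A.exists_upH hψ ho
  obtain ⟨a, ha, hia, hGa, hm⟩ := A.cfg.partner_surjective ⟨b, hb⟩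
    ((A.upH_invariant hb hob).mp hi) (A.overH_of_overI hb hob)
  have hoa := A.overT_of_overG ha hGa
  exact ⟨indFun A.T a, (clifford_induce A.D.L A.irr A.L_le_T A.T_def ha hoa).1,
    (A.upT_invariant ha hoa).mpr hia, (A.oddMult_iff ha hoa hb hob).mpr hm⟩

end Cfsg.Lib.Char.SectionParity
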