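import Cfsg.Agent.Lib.Char.SectionParity.Reduce
import Cfsg.Agent.Lib.Coprime.Action

/-!
# The layout inside an ambient group
-/

set_option autoImplicit false
set_option linter.unusedSectionVars false
set_option linter.style.haveILetI false

namespace Cfsg.Lib.Char.SectionParity

open Cfsg
open scoped commutatorElement

universe u

variable {Γ : Type u} [Group Γ] [Fintype Γ]

/-- The commutator part of an abelian coprime section has no fixed points in the section. -/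
theorem mem_of_fixed_of_mem_commutator {S K L : Subgroup Γ}
    (hcop : (Nat.card S).Coprime (Nat.card K)) (hLK : L ≤ K)
    (hLn : ∀ k ∈ K, ∀ l ∈ L, k * l * k⁻¹ ∈ L) (hKS : ∀ s ∈ S, ∀ k ∈ K, s * k * s⁻¹ ∈ K)
    (hLS : ∀ s ∈ S, ∀ l ∈ L, s * l * s⁻¹ ∈ L)
    (hab : ∀ a ∈ K, ∀ b ∈ K, a * b * a⁻¹ * b⁻¹ ∈ L) {k : Γ} (hk : k ∈ L ⊔ ⁅K, S⁆)
    (hfix : ∀ s ∈ S, s * k * s⁻¹ * k⁻¹ ∈ L) : k ∈ L := by
  classical
  haveI : (L.subgroupOf K).Normal := ⟨fun l hl g =>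
    Subgroup.mem_subgroupOf.mpr (hLn g g.2 l (Subgroup.mem_subgroupOf.mp hl))⟩
  letI : CommGroup (↥K ⧸ L.subgroupOf K) :=
    { (inferInstance : Group (↥K ⧸ L.subgroupOf K)) with
      mul_comm := fun v w => by
        obtain ⟨a, rfl⟩ := QuotientGroup.mk_surjective v
        obtain ⟨b, rfl⟩ := QuotientGroup.mk_surjective w
        rw [← QuotientGroup.mk_mul, ← QuotientGroup.mk_mul, QuotientGroup.eq,
          Subgroup.mem_subgroupOf]
        have h := hab (b⁻¹ : K) (inv_mem b.2) (a⁻¹ : K) (inv_mem a.2)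
        simpa [mul_assoc] using h }
  letI : Fintype S := Fintype.ofFinite _
  let cj : S → (K →* ↥K ⧸ L.subgroupOf K) := fun s =>
    (QuotientGroup.mk' (L.subgroupOf K)).comp
      { toFun := fun a => (⟨(s : Γ) * a * (s : Γ)⁻¹, hKS s s.2 a a.2⟩ : K)
        map_one' := Subtype.ext (by simp)
        map_mul' := fun a b => Subtype.ext (by push_cast; group) }
  let N : K →* ↥K ⧸ L.subgroupOf K := ∏ s, cj s
  have hN : ∀ a, N a = ∏ s, cj s a := fun a => MonoidHom.finset_prod_apply _ _ _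
  have hle : L ⊔ ⁅K, S⁆ ≤ N.ker.map K.subtype := by
    refine sup_le (fun l hl => ⟨⟨l, hLK hl⟩, ?_, rfl⟩) (Subgroup.commutator_le.mpr fun a ha s hs => ?_)
    · show N _ = 1
      rw [hN]
      refine Finset.prod_eq_one fun s _ => ?_
      exact (QuotientGroup.eq_one_iff _).mpr (Subgroup.mem_subgroupOf.mpr (hLS s s.2 l hl))
    · refine ⟨⟨a, ha⟩ * ⟨s * a⁻¹ * s⁻¹, hKS s hs _ (inv_mem ha)⟩, ?_, ?_⟩
      · show N _ = 1
        rw [map_mul, hN, hN]
        have h1 : ∏ x : S, cj x ⟨s * a⁻¹ * s⁻¹, hKS s hs _ (inv_mem ha)⟩ =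
            ∏ x : S, cj x (⟨a, ha⟩⁻¹ : K) := by
          refine Fintype.prod_equiv (Equiv.mulRight (⟨s, hs⟩ : S)) _ _ fun x => ?_
          refine congrArg (QuotientGroup.mk' _) (Subtype.ext ?_)
          show (x : Γ) * (s * a⁻¹ * s⁻¹) * (x : Γ)⁻¹ =
            (((x * ⟨s, hs⟩ : S) : Γ)) * a⁻¹ * (((x * ⟨s, hs⟩ : S) : Γ))⁻¹
          push_cast
          group
        rw [h1, ← Finset.prod_mul_distrib]
        exact Finset.prod_eq_one fun x _ => by rw [← map_mul, mul_inv_cancel, map_one]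
      · show a * (s * a⁻¹ * s⁻¹) = ⁅a, s⁆
        rw [commutatorElement_def]
        group
  obtain ⟨a, ha, rfl⟩ := hle hk
  have hpow : ((a : ↥K ⧸ L.subgroupOf K)) ^ Nat.card S = 1 := by
    rw [show (1 : ↥K ⧸ L.subgroupOf K) = N a from ha.symm, hN, Nat.card_eq_fintype_card,
      ← Finset.card_univ, ← Finset.prod_const]
    refine Finset.prod_congr rfl fun s _ => ?_
    show (a : ↥K ⧸ L.subgroupOf K) =
      ((⟨(s : Γ) * a * (s : Γ)⁻¹, hKS s s.2 a a.2⟩ : K) : ↥K ⧸ L.subgroupOf K)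
    rw [QuotientGroup.eq, Subgroup.mem_subgroupOf]
    have h1 := hLn _ (K.inv_mem a.2) _ (hfix s s.2)
    rw [inv_inv] at h1
    simpa [mul_assoc] using h1
  have hcard : (a : ↥K ⧸ L.subgroupOf K) ^ Nat.card K = 1 :=
    orderOf_dvd_iff_pow_eq_one.mp ((orderOf_dvd_natCard _).trans
      (Subgroup.card_quotient_dvd_card _))
  have h1 := pow_gcd_eq_one.mpr ⟨hpow, hcard⟩
  rw [hcop, pow_one, QuotientGroup.eq_one_iff, Subgroup.mem_subgroupOf] at h1
  exact h1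

/-- An element normalising both subgroups normalises their commutator join. -/
theorem conj_mem_sup_commutator {S K L : Subgroup Γ} {g : Γ}
    (hK : ∀ k ∈ K, g * k * g⁻¹ ∈ K) (hL : ∀ l ∈ L, g * l * g⁻¹ ∈ L)
    (hS : ∀ s ∈ S, g * s * g⁻¹ = s) {x : Γ} (hx : x ∈ L ⊔ ⁅K, S⁆) :
    g * x * g⁻¹ ∈ L ⊔ ⁅K, S⁆ := by
  have h : (L ⊔ ⁅K, S⁆).map (MulAut.conj g).toMonoidHom ≤ L ⊔ ⁅K, S⁆ := by
    rw [Subgroup.map_sup, Subgroup.map_commutator]
    refine sup_le_sup ?_ (Subgroup.commutator_mono ?_ ?_)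
    · rintro _ ⟨l, hl, rfl⟩; exact hL l hl
    · rintro _ ⟨k, hk, rfl⟩; exact hK k hk
    · rintro _ ⟨s, hs, rfl⟩
      show g * s * g⁻¹ ∈ S
      rw [hS s hs]; exact hs
  exact h ⟨x, hx, rfl⟩

end Cfsg.Lib.Char.SectionParity
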