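import Cfsg.Agent.Lib.Char.SectionParity.Ring
import Mathlib.GroupTheory.FiniteAbelian.Duality
import Mathlib.RingTheory.RootsOfUnity.EnoughRootsOfUnity
import Mathlib.RingTheory.RootsOfUnity.AlgebraicallyClosed
import Mathlib.Analysis.Complex.Polynomial.Basic

/-!
# The canonical equivariant section of the twisted algebra of an abelian odd section
-/

set_option autoImplicit false
set_option linter.unusedSectionVars false
set_option linter.style.haveILetI false

namespace Cfsg.Lib.Char.SectionParity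

open Cfsg Module Cfsg.Lib.Char
open scoped ComplexConjugate

universe u v

variable {G : Type u} [Group G] [Fintype G]

/-- An abelian normal section over the bottom subgroup in a group of odd order. -/
structure Layer (B : Below G) where
  K : Subgroup G
  normal : K.Normal
  le : B.L ≤ K
  comm : ∀ a ∈ K, ∀ b ∈ K, a * b * a⁻¹ * b⁻¹ ∈ B.L
  odd : Odd (Nat.card G)

variable {B : Below G} (Y : Layer B)

instance : Y.K.Normal := Y.normal
instance : (B.L.subgroupOf Y.K).Normal := B.normal.subgroupOf Y.K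

/-- The section. -/
abbrev Sect : Type u := ↥Y.K ⧸ B.L.subgroupOf Y.K

theorem sect_comm (v w : Sect Y) : v * w = w * v := by
  obtain ⟨a, rfl⟩ := QuotientGroup.mk_surjective v
  obtain ⟨b, rfl⟩ := QuotientGroup.mk_surjective w
  rw [← QuotientGroup.mk_mul, ← QuotientGroup.mk_mul, QuotientGroup.eq, Subgroup.mem_subgroupOf]
  have h := Y.comm (b⁻¹ : Y.K) (inv_mem b.2) (a⁻¹ : Y.K) (inv_mem a.2)
  simpa [mul_assoc] using h

noncomputable instance : CommGroup (Sect Y) :=
  { (inferInstance : Group (Sect Y)) with mul_comm := sect_comm Y }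

noncomputable instance : Fintype (Sect Y) := Fintype.ofFinite _

/-- An element of the piece at a point of the section. -/
def InV (v : Sect Y) (y : (Tot B)ˣ) : Prop :=
  ∃ k : Y.K, (k : Sect Y) = v ∧ InE B (k : G) y

theorem exists_inV (v : Sect Y) : ∃ y, InV Y v y := by
  obtain ⟨k, rfl⟩ := QuotientGroup.mk_surjective v
  obtain ⟨y, hy⟩ := exists_inE B (k : G)
  exact ⟨y, k, rfl, hy⟩

theorem InV.mul {v w : Sect Y} {y z : (Tot B)ˣ} (hy : InV Y v y) (hz : InV Y w z) :
    InV Y (v * w) (y * z) := by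
  obtain ⟨a, rfl, ha⟩ := hy
  obtain ⟨b, rfl, hb⟩ := hz
  exact ⟨a * b, QuotientGroup.mk_mul _ _ _, ha.mul B hb⟩

theorem InV.inv {v : Sect Y} {y : (Tot B)ˣ} (hy : InV Y v y) : InV Y v⁻¹ y⁻¹ := by
  obtain ⟨a, rfl, ha⟩ := hy
  exact ⟨a⁻¹, QuotientGroup.mk_inv _ _, ha.inv B⟩

theorem inV_sc (c : ℂˣ) : InV Y 1 (sc B c) := ⟨1, rfl, inE_sc B c⟩

theorem InV.scalar {y : (Tot B)ˣ} (hy : InV Y 1 y) : ∃ c : ℂˣ, y = sc B c := by
  obtain ⟨a, ha, hE⟩ := hy
  exact hE.scalar B (Subgroup.mem_subgroupOf.mp ((QuotientGroup.eq_one_iff a).mp ha))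

theorem InV.exists_scalar {v : Sect Y} {y z : (Tot B)ˣ} (hy : InV Y v y) (hz : InV Y v z) :
    ∃ c : ℂˣ, z = sc B c * y := by
  obtain ⟨c, hc⟩ := InV.scalar Y (y := z * y⁻¹) (by
    simpa using hz.mul Y (hy.inv Y))
  exact ⟨c, by rw [← hc, inv_mul_cancel_right]⟩

theorem exists_pair (v w : Sect Y) :
    ∃ c : ℂˣ, ∀ y z, InV Y v y → InV Y w z → y * z = sc B c * (z * y) := by
  obtain ⟨y₀, hy₀⟩ := exists_inV Y v
  obtain ⟨z₀, hz₀⟩ := exists_inV Y w
  obtain ⟨c, hc⟩ := (hz₀.mul Y hy₀).exists_scalar Y (z := y₀ * z₀) (by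
    rw [mul_comm w v]; exact hy₀.mul Y hz₀)
  refine ⟨c, fun y z hy hz => ?_⟩
  obtain ⟨a, rfl⟩ := hy₀.exists_scalar Y hy
  obtain ⟨b, rfl⟩ := hz₀.exists_scalar Y hz
  calc sc B a * y₀ * (sc B b * z₀) = sc B a * (y₀ * sc B b) * z₀ := by simp only [mul_assoc]
    _ = sc B a * sc B b * (y₀ * z₀) := by rw [← sc_comm]; simp only [mul_assoc]
    _ = sc B a * sc B b * (sc B c * (z₀ * y₀)) := by rw [hc]
    _ = sc B c * (sc B b * (sc B a * (z₀ * y₀))) := by
        simp only [← mul_assoc, ← map_mul]; congr 3; ac_rfl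
    _ = sc B c * (sc B b * (z₀ * (sc B a * y₀))) := by
        congr 2
        rw [← mul_assoc z₀, ← sc_comm, mul_assoc]
    _ = _ := by simp only [mul_assoc]

/-- The commutator pairing. -/
noncomputable def pair (v w : Sect Y) : ℂˣ := (exists_pair Y v w).choose

theorem pair_spec {v w : Sect Y} {y z : (Tot B)ˣ} (hy : InV Y v y) (hz : InV Y w z) :
    y * z = sc B (pair Y v w) * (z * y) := (exists_pair Y v w).choose_spec y z hy hz

theorem pair_eq {v w : Sect Y} {y z : (Tot B)ˣ} (hy : InV Y v y) (hz : InV Y w z) {c : ℂˣ}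
    (h : y * z = sc B c * (z * y)) : pair Y v w = c :=
  sc_injective B (mul_right_cancel ((pair_spec Y hy hz).symm.trans h))

theorem pair_mul_left (v v' w : Sect Y) : pair Y (v * v') w = pair Y v w * pair Y v' w := by
  obtain ⟨y, hy⟩ := exists_inV Y v
  obtain ⟨y', hy'⟩ := exists_inV Y v'
  obtain ⟨z, hz⟩ := exists_inV Y w
  refine pair_eq Y (hy.mul Y hy') hz ?_
  calc y * y' * z = y * (sc B (pair Y v' w) * (z * y')) := by rw [mul_assoc, pair_spec Y hy' hz]
    _ = sc B (pair Y v' w) * (y * z * y') := by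
        rw [← mul_assoc y, ← sc_comm]; simp only [mul_assoc]
    _ = sc B (pair Y v' w) * (sc B (pair Y v w) * (z * y) * y') := by rw [pair_spec Y hy hz]
    _ = _ := by rw [mul_comm (pair Y v w), map_mul]; simp only [mul_assoc]

theorem pair_self (v : Sect Y) : pair Y v v = 1 := by
  obtain ⟨y, hy⟩ := exists_inV Y v
  exact pair_eq Y hy hy (by rw [map_one, one_mul])

theorem pair_swap (v w : Sect Y) : pair Y v w * pair Y w v = 1 := by
  obtain ⟨y, hy⟩ := exists_inV Y v
  obtain ⟨z, hz⟩ := exists_inV Y w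
  have h := pair_spec Y hy hz
  rw [pair_spec Y hz hy, ← mul_assoc, ← map_mul] at h
  apply sc_injective B
  rw [map_one]
  exact mul_eq_right.mp h.symm

theorem pair_one_left (w : Sect Y) : pair Y 1 w = 1 := by
  have h := pair_mul_left Y 1 1 w
  rw [mul_one] at h
  exact left_eq_mul.mp h

theorem pair_mul_right (v w w' : Sect Y) : pair Y v (w * w') = pair Y v w * pair Y v w' := by
  have h : ∀ a b : Sect Y, pair Y a b = (pair Y b a)⁻¹ := fun a b =>
    eq_inv_of_mul_eq_one_left (pair_swap Y a b)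
  rw [h, pair_mul_left, mul_inv, ← h, ← h]

theorem pair_pow_left (v w : Sect Y) (n : ℕ) : pair Y (v ^ n) w = pair Y v w ^ n := by
  induction n with
  | zero => rw [pow_zero, pow_zero, pair_one_left]
  | succ n ih => rw [pow_succ, pow_succ, pair_mul_left, ih]

theorem pair_pow_card (v w : Sect Y) : pair Y v w ^ Nat.card G = 1 := by
  have hd : Nat.card (Sect Y) ∣ Nat.card G :=
    (Subgroup.card_quotient_dvd_card _).trans (Subgroup.card_subgroup_dvd_card _)
  rw [← pair_pow_left, orderOf_dvd_iff_pow_eq_one.mp ((orderOf_dvd_natCard v).trans hd),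
    pair_one_left]

/-- The square root of the pairing. -/
noncomputable def half (v w : Sect Y) : ℂˣ := pair Y v w ^ ((Nat.card G + 1) / 2)

theorem half_mul_left (v v' w : Sect Y) : half Y (v * v') w = half Y v w * half Y v' w := by
  rw [half, pair_mul_left, mul_pow]; rfl

theorem half_mul_right (v w w' : Sect Y) : half Y v (w * w') = half Y v w * half Y v w' := by
  rw [half, pair_mul_right, mul_pow]; rfl

theorem half_self (v : Sect Y) : half Y v v = 1 := by rw [half, pair_self, one_pow]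

theorem half_one_left (w : Sect Y) : half Y 1 w = 1 := by rw [half, pair_one_left, one_pow]

theorem half_swap (v w : Sect Y) : half Y v w * half Y w v = 1 := by
  rw [half, half, ← mul_pow, pair_swap, one_pow]

theorem half_one_right (v : Sect Y) : half Y v 1 = 1 := by
  have := half_swap Y 1 v
  rwa [half_one_left, one_mul] at this

theorem half_sq (v w : Sect Y) : half Y v w * half Y v w = pair Y v w := by
  have h2 : (Nat.card G + 1) / 2 + (Nat.card G + 1) / 2 = Nat.card G + 1 := by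
    obtain ⟨k, hk⟩ := Y.odd
    omega
  rw [half, ← pow_add, h2, pow_succ, pair_pow_card, one_mul]

theorem half_inv_left (v w : Sect Y) : half Y v⁻¹ w = (half Y v w)⁻¹ := by
  refine eq_inv_of_mul_eq_one_left ?_
  rw [← half_mul_left, inv_mul_cancel, half_one_left]

theorem half_inv_right (v w : Sect Y) : half Y v w⁻¹ = (half Y v w)⁻¹ := by
  refine eq_inv_of_mul_eq_one_left ?_
  rw [← half_mul_right, inv_mul_cancel, half_one_right]

/-- Points of the section with an element over them. -/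
structure Lifts where
  v : Sect Y
  y : (Tot B)ˣ
  mem : InV Y v y

variable {Y}

theorem Lifts.ext {a b : Lifts Y} (h1 : a.v = b.v) (h2 : a.y = b.y) : a = b := by
  cases a; cases b; cases h1; cases h2; rfl

noncomputable instance : Mul (Lifts Y) :=
  ⟨fun a b => ⟨a.v * b.v, sc B (half Y a.v b.v)⁻¹ * (a.y * b.y), by
    simpa using (inV_sc Y (half Y a.v b.v)⁻¹).mul Y (a.mem.mul Y b.mem)⟩⟩

noncomputable instance : One (Lifts Y) :=
  ⟨⟨1, 1, by have h := inV_sc Y 1; rwa [map_one] at h⟩⟩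

noncomputable instance : Inv (Lifts Y) := ⟨fun a => ⟨a.v⁻¹, a.y⁻¹, a.mem.inv Y⟩⟩

theorem sc_left (c : ℂˣ) (y z : (Tot B)ˣ) : y * (sc B c * z) = sc B c * (y * z) := by
  rw [← mul_assoc, ← sc_comm, mul_assoc]

theorem Lifts.mul_v (a b : Lifts Y) : (a * b).v = a.v * b.v := rfl
theorem Lifts.mul_y (a b : Lifts Y) :
    (a * b).y = sc B (half Y a.v b.v)⁻¹ * (a.y * b.y) := rfl
theorem Lifts.one_v : (1 : Lifts Y).v = 1 := rfl
theorem Lifts.one_y : (1 : Lifts Y).y = 1 := rfl

noncomputable instance : CommGroup (Lifts Y) where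
  mul_assoc a b c := by
    refine Lifts.ext (mul_assoc a.v b.v c.v) ?_
    simp only [Lifts.mul_y, Lifts.mul_v, half_mul_left, half_mul_right, mul_inv, map_mul]
    simp only [mul_assoc, fun (k : ℂˣ) (z : (Tot B)ˣ) => sc_left k a.y z]
    simp only [← mul_assoc, ← map_mul]
    congr 4
    apply Units.ext; simp only [Units.val_mul]; ring
  one_mul a := Lifts.ext (one_mul a.v) (by
    simp [Lifts.mul_y, Lifts.one_v, Lifts.one_y, half_one_left])
  mul_one a := Lifts.ext (mul_one a.v) (by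
    simp [Lifts.mul_y, Lifts.one_v, Lifts.one_y, half_one_right])
  inv_mul_cancel a := Lifts.ext (inv_mul_cancel a.v) (by
    show sc B (half Y a.v⁻¹ a.v)⁻¹ * (a.y⁻¹ * a.y) = 1
    simp [half_inv_left, half_self])
  mul_comm a b := by
    refine Lifts.ext (mul_comm a.v b.v) ?_
    rw [Lifts.mul_y, Lifts.mul_y, pair_spec Y a.mem b.mem, ← mul_assoc, ← map_mul]
    congr 2
    rw [← half_sq, inv_mul_cancel_left, eq_inv_iff_mul_eq_one, half_swap]

/-- The scalar lifts. -/
noncomputable def iota : ℂˣ →* Lifts Y where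
  toFun c := ⟨1, sc B c, inV_sc Y c⟩
  map_one' := Lifts.ext rfl (map_one _)
  map_mul' a b := Lifts.ext (mul_one 1).symm (by
    rw [Lifts.mul_y]; simp [half_one_left, map_mul])

theorem iota_v (c : ℂˣ) : (iota (Y := Y) c).v = 1 := rfl

theorem exists_iota {a : Lifts Y} (h : a.v = 1) : ∃ c, a = iota c := by
  obtain ⟨c, hc⟩ := InV.scalar Y (h ▸ a.mem)
  exact ⟨c, Lifts.ext h hc⟩

theorem iota_injective : Function.Injective (iota (Y := Y)) := fun _ _ h =>
  sc_injective B (congrArg Lifts.y h)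

/-- The projection. -/
noncomputable def proj : Lifts Y →* Sect Y where
  toFun a := a.v
  map_one' := rfl
  map_mul' _ _ := rfl

/-- The lifts of exponent dividing the group order. -/
noncomputable abbrev TorLifts : Subgroup (Lifts Y) :=
  (powMonoidHom (Nat.card G) : Lifts Y →* Lifts Y).ker

theorem mem_tor {a : Lifts Y} : a ∈ TorLifts (Y := Y) ↔ a ^ Nat.card G = 1 := Iff.rfl

theorem tor_surjective (v : Sect Y) : ∃ a ∈ TorLifts (Y := Y), a.v = v := by
  obtain ⟨y, hy⟩ := exists_inV Y v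
  let a : Lifts Y := ⟨v, y, hy⟩
  have hd : Nat.card (Sect Y) ∣ Nat.card G :=
    (Subgroup.card_quotient_dvd_card _).trans (Subgroup.card_subgroup_dvd_card _)
  obtain ⟨c, hc⟩ := exists_iota (a := a ^ Nat.card G) (by
    show proj (a ^ Nat.card G) = 1
    rw [map_pow]
    exact orderOf_dvd_iff_pow_eq_one.mp ((orderOf_dvd_natCard _).trans hd))
  obtain ⟨d, hd⟩ := IsAlgClosed.exists_pow_nat_eq (c : ℂ) (n := Nat.card G) Nat.card_pos
  have hd0 : d ≠ 0 := fun h => c.ne_zero (by rw [← hd, h, zero_pow Nat.card_pos.ne'])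
  refine ⟨a * iota (Units.mk0 d hd0)⁻¹, ?_, ?_⟩
  · rw [mem_tor, mul_pow, hc, ← map_pow, ← map_mul, inv_pow,
      show Units.mk0 d hd0 ^ Nat.card G = c from Units.ext (by simpa using hd), mul_inv_cancel,
      map_one]
  · show v * 1 = v
    exact mul_one v

theorem tor_iota {c : ℂˣ} : iota c ∈ TorLifts (Y := Y) ↔ c ^ Nat.card G = 1 := by
  rw [mem_tor, ← map_pow]
  exact ⟨fun h => iota_injective (h.trans (map_one _).symm), fun h => by rw [h, map_one]⟩

noncomputable instance : Finite (TorLifts (Y := Y)) := by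
  haveI : NeZero (Nat.card G) := ⟨Nat.card_pos.ne'⟩
  choose s hs hsv using fun v : Sect Y => tor_surjective v
  let F : Sect Y × rootsOfUnity (Nat.card G) ℂ → TorLifts (Y := Y) := fun x =>
    ⟨s x.1 * iota (x.2 : ℂˣ), mul_mem (hs x.1) (tor_iota.mpr x.2.2)⟩
  refine Finite.of_surjective F fun a => ?_
  obtain ⟨c, hc⟩ := exists_iota (a := (s (a : Lifts Y).v)⁻¹ * (a : Lifts Y)) (by
    show (s (a : Lifts Y).v).v⁻¹ * (a : Lifts Y).v = 1
    rw [hsv, inv_mul_cancel])
  refine ⟨((a : Lifts Y).v, ⟨c, tor_iota.mp (hc ▸ mul_mem (inv_mem (hs _)) a.2)⟩), Subtype.ext ?_⟩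
  show s (a : Lifts Y).v * iota (Y := Y) c = (a : Lifts Y)
  rw [← hc, mul_inv_cancel_left]

/-- An automorphism of the group acting compatibly on all the representations. -/
structure Twist (Y : Layer B) where
  α : G ≃* G
  Φ : Tot B →ₐ[ℂ] Tot B
  map_act : ∀ g, Φ (act B g) = act B (α g)
  mapL : ∀ l ∈ B.L, α l ∈ B.L
  surjL : ∀ l ∈ B.L, ∃ l' ∈ B.L, α l' = l
  mapK : ∀ k ∈ Y.K, α k ∈ Y.K

variable (t : Twist Y)

/-- The twist on units. -/
noncomputable def Twist.Φu : (Tot B)ˣ →* (Tot B)ˣ := Units.map t.Φ.toMonoidHom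

theorem Twist.map_U (g : G) : t.Φu (U B g) = U B (t.α g) := Units.ext (t.map_act g)

theorem Twist.map_sc (c : ℂˣ) : t.Φu (sc B c) = sc B c := Units.ext (t.Φ.commutes _)

theorem Twist.exists_map_j (X : Module.End ℂ (Fin B.m → ℂ)) : ∃ X', t.Φ (j B X) = j B X' := by
  refine ⟨∑ l : B.L, coef B X l • B.σ ⟨t.α l, t.mapL l l.2⟩, ?_⟩
  show t.Φ (span B (coef B X)) = jLin B _
  rw [span_apply, map_sum, map_sum]
  refine Finset.sum_congr rfl fun l _ => ?_
  rw [map_smul, map_smul, t.map_act]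
  congr 1
  exact (j_sigma B ⟨t.α l, t.mapL l l.2⟩).symm

theorem Twist.inE {k : G} {y : (Tot B)ˣ} (hy : InE B k y) : InE B (t.α k) (t.Φu y) := by
  refine ⟨fun l => ?_, ?_⟩
  · obtain ⟨l', hl', he⟩ := t.surjL l l.2
    rw [← he, ← t.map_U, ← map_mul, ← map_mul, hy.comm ⟨l', hl'⟩]
  · obtain ⟨X, hX⟩ := hy.mem
    obtain ⟨X', h'⟩ := t.exists_map_j X
    obtain ⟨X'', h''⟩ := t.exists_map_j (X⁻¹ : (Module.End ℂ (Fin B.m → ℂ))ˣ)
    refine ⟨⟨X', X'', ?_, ?_⟩, ?_⟩
    · apply j_injective B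
      rw [j_mul, ← h', ← h'', ← map_mul, ← j_mul, Units.mul_inv, j_one, map_one]
    · apply j_injective B
      rw [j_mul, ← h', ← h'', ← map_mul, ← j_mul, Units.inv_mul, j_one, map_one]
    · rw [hX, map_mul, t.map_U]
      congr 1
      exact Units.ext h'

/-- The twist on the section. -/
noncomputable def Twist.αV : Sect Y →* Sect Y :=
  QuotientGroup.map _ _
    { toFun := fun k : Y.K => (⟨t.α (k : G), t.mapK k k.2⟩ : Y.K)
      map_one' := Subtype.ext (map_one t.α)
      map_mul' := fun a b => Subtype.ext (map_mul t.α (a : G) (b : G)) }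
    (fun k hk => Subgroup.mem_subgroupOf.mpr (t.mapL k (Subgroup.mem_subgroupOf.mp hk)))

theorem Twist.inV {v : Sect Y} {y : (Tot B)ˣ} (hy : InV Y v y) :
    InV Y (t.αV v) (t.Φu y) := by
  obtain ⟨k, rfl, hk⟩ := hy
  exact ⟨⟨t.α k, t.mapK k k.2⟩, rfl, t.inE hk⟩

theorem Twist.pair (v w : Sect Y) :
    SectionParity.pair Y (t.αV v) (t.αV w) = SectionParity.pair Y v w := by
  obtain ⟨y, hy⟩ := exists_inV Y v
  obtain ⟨z, hz⟩ := exists_inV Y w
  refine pair_eq Y (t.inV hy) (t.inV hz) ?_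
  rw [← map_mul, pair_spec Y hy hz, map_mul, map_mul, t.map_sc]

theorem Twist.half (v w : Sect Y) :
    SectionParity.half Y (t.αV v) (t.αV w) = SectionParity.half Y v w := by
  rw [SectionParity.half, t.pair]; rfl

/-- The twist on lifts. -/
noncomputable def Twist.lift : Lifts Y →* Lifts Y where
  toFun a := ⟨t.αV a.v, t.Φu a.y, t.inV a.mem⟩
  map_one' := Lifts.ext (map_one _) (map_one _)
  map_mul' a b := Lifts.ext (map_mul _ _ _) (by
    show t.Φu (sc B _ * (a.y * b.y)) = sc B _ * (t.Φu a.y * t.Φu b.y)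
    rw [map_mul, map_mul, t.map_sc, t.half])

theorem Twist.lift_iota (c : ℂˣ) : t.lift (iota c) = iota c :=
  Lifts.ext (map_one _) (t.map_sc c)

theorem Twist.lift_tor {a : Lifts Y} (h : a ∈ TorLifts (Y := Y)) :
    t.lift a ∈ TorLifts (Y := Y) := by
  rw [mem_tor] at h ⊢
  rw [← map_pow, h, map_one]

/-- The twist on lifts of bounded exponent. -/
noncomputable def Twist.tor : TorLifts (Y := Y) →* TorLifts (Y := Y) where
  toFun a := ⟨t.lift a, t.lift_tor a.2⟩
  map_one' := Subtype.ext (map_one t.lift)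
  map_mul' a b := Subtype.ext (map_mul t.lift _ _)

/-- A finite coprime family of twists without common fixed points. -/
structure Ops (Y : Layer B) (S : Type v) [Group S] where
  t : S → Twist Y
  lift_mul : ∀ (s s' : S) (a : Lifts Y), (t (s * s')).lift a = (t s).lift ((t s').lift a)
  coprime : (Nat.card S).Coprime (Nat.card G)
  free : ∀ v : Sect Y, (∀ s, (t s).αV v = v) → v = 1

variable {S : Type v} [Group S] [Fintype S] (O : Ops Y S)

include O in
theorem Ops.prod_v (a : Lifts Y) : (∏ s, (O.t s).lift a).v = 1 := by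
  apply O.free
  intro s₀
  show ((O.t s₀).lift (∏ s, (O.t s).lift a)).v = _
  rw [map_prod]
  congr 1
  exact Fintype.prod_equiv (Equiv.mulLeft s₀) _ _ fun s => (O.lift_mul s₀ s a).symm

include O in
/-- The canonical section. -/
theorem Ops.exists_section :
    ∃ x : Sect Y → (Tot B)ˣ, (∀ v, InV Y v (x v)) ∧
      (∀ v w, x v * x w = sc B (SectionParity.half Y v w) * x (v * w)) ∧
      (∀ s v, (O.t s).Φu (x v) = x ((O.t s).αV v)) ∧
      ∀ t : Twist Y, (∀ s a, (O.t s).lift (t.lift a) = t.lift ((O.t s).lift a)) →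
        ∀ v, t.Φu (x v) = x (t.αV v) := by
  classical
  haveI : NeZero (Nat.card G) := ⟨Nat.card_pos.ne'⟩
  let μ := rootsOfUnity (Nat.card G) ℂ
  let ιμ : μ →* TorLifts (Y := Y) :=
    { toFun := fun c => ⟨iota (c : ℂˣ), tor_iota.mpr c.2⟩
      map_one' := Subtype.ext (map_one iota)
      map_mul' := fun a b => Subtype.ext (map_mul iota _ _) }
  have hιμ : Function.Injective ιμ := fun a b h =>
    Subtype.ext (iota_injective (congrArg Subtype.val h))
  haveI : NeZero (Monoid.exponent (TorLifts (Y := Y))) :=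
    ⟨Monoid.exponent_ne_zero_of_finite⟩
  obtain ⟨ε₀, hε₀⟩ := MonoidHom.domRestrict_surjective (M := ℂ) ιμ.range
    (μ.subtype.comp (MonoidHom.ofInjective hιμ).symm.toMonoidHom)
  have hε₀ι : ∀ c : μ, ε₀ (ιμ c) = c := fun c => by
    have h := DFunLike.congr_fun hε₀ ⟨ιμ c, c, rfl⟩
    refine h.trans ?_
    show (((MonoidHom.ofInjective hιμ).symm ⟨ιμ c, c, rfl⟩ : μ) : ℂˣ) = c
    congr 1
    exact (MonoidHom.ofInjective hιμ).symm_apply_apply c
  let ε : TorLifts (Y := Y) →* ℂˣ := ∏ s, ε₀.comp (O.t s).tor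
  have hεa : ∀ a, ε a = ∏ s, ε₀ ((O.t s).tor a) := fun a => MonoidHom.finset_prod_apply _ _ _
  have hει : ∀ c : μ, ε (ιμ c) = (c : ℂˣ) ^ Nat.card S := fun c => by
    rw [hεa, Finset.prod_congr rfl (g := fun _ => (c : ℂˣ)) (fun s _ => by
      rw [show (O.t s).tor (ιμ c) = ιμ c from Subtype.ext ((O.t s).lift_iota c), hε₀ι]),
      Finset.prod_const, Finset.card_univ, Nat.card_eq_fintype_card]
  have hinj : ∀ c : μ, c ^ Nat.card S = 1 → c = 1 := fun c hc => by
    have h1 : c ^ Nat.card G = 1 := Subtype.ext c.2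
    have := pow_gcd_eq_one.mpr ⟨hc, h1⟩
    rwa [O.coprime, pow_one] at this
  have hsurj : Function.Bijective fun c : μ => c ^ Nat.card S :=
    Finite.injective_iff_bijective.mp
      ((injective_iff_map_eq_one (powMonoidHom (Nat.card S) : μ →* μ)).mpr hinj)
  have hfix : ∀ s₀ a, ε ((O.t s₀).tor a) = ε a := fun s₀ a => by
    rw [hεa, hεa]
    refine Fintype.prod_equiv (Equiv.mulRight s₀) _ _ fun s => ?_
    congr 1
    exact Subtype.ext (O.lift_mul s s₀ a).symm
  have huniq : ∀ (t : Twist Y), (∀ s a, (O.t s).lift (t.lift a) = t.lift ((O.t s).lift a)) →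
      ∀ a, ε (t.tor a) = ε a := by
    intro t ht a
    set l := ε (t.tor a) * (ε a)⁻¹ with hl
    have hn : l ^ Nat.card G = 1 := by
      have h1 : a ^ Nat.card G = 1 := Subtype.ext a.2
      rw [hl, mul_pow, inv_pow, ← map_pow, ← map_pow, ← map_pow, h1]
      simp
    have hS : l ^ Nat.card S = 1 := by
      obtain ⟨c, hc⟩ := exists_iota (O.prod_v (a : Lifts Y))
      let P : TorLifts (Y := Y) := ∏ s, (O.t s).tor a
      have hP : (P : Lifts Y) = iota c := by
        rw [← hc]; exact Subgroup.val_finset_prod _ _ _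
      have hfixP : t.tor P = P := Subtype.ext (by
        show t.lift P = P
        rw [hP, t.lift_iota])
      have h1 : ε (t.tor P) = ε (t.tor a) ^ Nat.card S := by
        rw [map_prod, map_prod, Finset.prod_congr rfl (g := fun _ => ε (t.tor a)) (fun s _ => by
          rw [show t.tor ((O.t s).tor a) = (O.t s).tor (t.tor a) from
            Subtype.ext (ht s a).symm, hfix]),
          Finset.prod_const, Finset.card_univ, Nat.card_eq_fintype_card]
      have h2 : ε P = ε a ^ Nat.card S := by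
        rw [map_prod, Finset.prod_congr rfl (g := fun _ => ε a) (fun s _ => hfix s a),
          Finset.prod_const, Finset.card_univ, Nat.card_eq_fintype_card]
      rw [hl, mul_pow, inv_pow, ← h1, ← h2, hfixP, mul_inv_cancel]
    have := pow_gcd_eq_one.mpr ⟨hS, hn⟩
    rw [O.coprime, pow_one, hl, mul_inv_eq_one] at this
    exact this
  have hεn : ∀ a, ε a ^ Nat.card G = 1 := fun a => by
    rw [← map_pow, show a ^ Nat.card G = 1 from Subtype.ext a.2, map_one]
  have hex : ∀ v, ∃ a : TorLifts (Y := Y), (a : Lifts Y).v = v ∧ ε a = 1 := by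
    intro v
    obtain ⟨a, ha, hav⟩ := tor_surjective v
    obtain ⟨c, hc⟩ := hsurj.2 ⟨(ε ⟨a, ha⟩)⁻¹, by
      rw [mem_rootsOfUnity, inv_pow, hεn, inv_one]⟩
    refine ⟨⟨a, ha⟩ * ιμ c, ?_, ?_⟩
    · show a.v * 1 = v
      rw [mul_one, hav]
    · rw [map_mul, hει, show (c : ℂˣ) ^ Nat.card S = (ε ⟨a, ha⟩)⁻¹ from congrArg Subtype.val hc,
        mul_inv_cancel]
  choose s hsv hsε using hex
  have huni : ∀ a : TorLifts (Y := Y), ε a = 1 → a = s (a : Lifts Y).v := by
    intro a ha
    obtain ⟨c, hc⟩ := exists_iota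
      (a := ((a * (s (a : Lifts Y).v)⁻¹ : TorLifts (Y := Y)) : Lifts Y)) (by
        show (a : Lifts Y).v * (s (a : Lifts Y).v : Lifts Y).v⁻¹ = 1
        rw [hsv, mul_inv_cancel])
    have hcμ : c ∈ μ := tor_iota.mp (hc ▸ (a * (s (a : Lifts Y).v)⁻¹).2)
    have he : a * (s (a : Lifts Y).v)⁻¹ = ιμ ⟨c, hcμ⟩ := Subtype.ext hc
    have h1 := congrArg ε he
    rw [map_mul, map_inv, ha, hsε, inv_one, one_mul, hει] at h1
    rw [hinj ⟨c, hcμ⟩ (Subtype.ext h1.symm), map_one, mul_inv_eq_one] at he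
    exact he
  refine ⟨fun v => (s v : Lifts Y).y, fun v => ?_, fun v w => ?_, fun s₀ v => ?_,
    fun t ht v => ?_⟩
  · have := (s v : Lifts Y).mem
    rwa [hsv] at this
  · have h := huni (s v * s w) (by rw [map_mul, hsε, hsε, one_mul])
    rw [show ((s v * s w : TorLifts (Y := Y)) : Lifts Y).v = v * w from by
      show (s v : Lifts Y).v * (s w : Lifts Y).v = _
      rw [hsv, hsv]] at h
    have hy := congrArg (fun a : TorLifts (Y := Y) => (a : Lifts Y).y) h
    change sc B (SectionParity.half Y (s v : Lifts Y).v (s w : Lifts Y).v)⁻¹ *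
      ((s v : Lifts Y).y * (s w : Lifts Y).y) = (s (v * w) : Lifts Y).y at hy
    rw [hsv, hsv, map_inv, inv_mul_eq_iff_eq_mul] at hy
    exact hy
  · have h := huni ((O.t s₀).tor (s v)) (by rw [hfix, hsε])
    rw [show (((O.t s₀).tor (s v)) : Lifts Y).v = (O.t s₀).αV v from by
      show (O.t s₀).αV (s v : Lifts Y).v = _
      rw [hsv]] at h
    exact congrArg (fun a : TorLifts (Y := Y) => (a : Lifts Y).y) h
  · have h := huni (t.tor (s v)) (by rw [huniq t ht, hsε])
    rw [show ((t.tor (s v)) : Lifts Y).v = t.αV v from by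
      show t.αV (s v : Lifts Y).v = _
      rw [hsv]] at h
    exact congrArg (fun a : TorLifts (Y := Y) => (a : Lifts Y).y) h

end Cfsg.Lib.Char.SectionParity
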