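import Cfsg.Agent.Lib.Char.SectionParity.Orth
import Cfsg.Agent.Lib.Char.SignedIrr
import Cfsg.Agent.Lib.Char.Formulas

/-!
# The correspondence of odd multiplicity over an invariant character
-/

set_option autoImplicit false
set_option linter.unusedSectionVars false
set_option linter.style.haveILetI false

namespace Cfsg.Lib.Char.SectionParity

open Cfsg Module Cfsg.Lib.Char
open scoped ComplexConjugate

universe u v w

/-- A constituent of a character whose restriction is a multiple of an irreducible character has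
such a restriction as well. -/
theorem over_of_constituent {H : Type u} [Group H] [Fintype H] {L : Type w} [Group L] [Fintype L]
    (ι : L →* H) {θ : L → ℂ} (hθ : IsIrrCharacter L θ) {f : H → ℂ} (hf : IsCharacter H f)
    (hover : ∃ a : ℂ, ∀ l, f (ι l) = a * θ l) {ψ : H → ℂ} (hψ : IsIrrCharacter H ψ)
    (hne : classInner f ψ ≠ 0) : ∃ a : ℂ, ∀ l, ψ (ι l) = a * θ l := by
  obtain ⟨a, ha⟩ := hover
  have hρc : IsCharacter L (fun l => ψ (ι l)) := hψ.isCharacter.comp ι
  refine ⟨classInner (fun l => ψ (ι l)) θ, ?_⟩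
  have hext : (fun l => ψ (ι l)) = classInner (fun l => ψ (ι l)) θ • θ := by
    refine ext_classInner hρc.isClassFunction (fun g h => by
      simp [hθ.isClassFunction g h]) fun μ hμ => ?_
    rw [classInner_smul_left]
    by_cases hμθ : θ = μ
    · subst hμθ; rw [classInner_irr_self hθ, mul_one]
    rw [classInner_irr_ne hθ hμ hμθ, mul_zero]
    choose n hn using fun χ : IrrCharacter H => hf.exists_nat_classInner χ.2.isCharacter
    choose k hk using fun χ : IrrCharacter H =>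
      (χ.2.isCharacter.comp ι).exists_nat_classInner hμ.isCharacter
    have hfl : (fun l => f (ι l)) = ∑ χ : IrrCharacter H, (n χ : ℂ) •
        (fun l => (χ : H → ℂ) (ι l)) := by
      funext l
      conv_lhs => rw [eq_sum_classInner hf.isClassFunction]
      simp [hn, Finset.sum_apply]
    have h0 : classInner (fun l => f (ι l)) μ = 0 := by
      rw [show (fun l => f (ι l)) = a • θ from funext ha, classInner_smul_left,
        classInner_irr_ne hθ hμ hμθ, mul_zero]
    rw [hfl, classInner_sum_left] at h0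
    simp only [classInner_smul_left, hk] at h0
    have h1 : (∑ χ, n χ * k χ) = 0 := by exact_mod_cast h0
    have h2 := Finset.sum_eq_zero_iff.mp h1 ⟨ψ, hψ⟩ (Finset.mem_univ _)
    have hn0 : n ⟨ψ, hψ⟩ ≠ 0 := fun h => hne (by rw [hn ⟨ψ, hψ⟩, h, Nat.cast_zero])
    have hk0 : k ⟨ψ, hψ⟩ = 0 := (mul_eq_zero.mp h2).resolve_left hn0
    rw [hk ⟨ψ, hψ⟩, hk0, Nat.cast_zero]
  exact fun l => congrFun hext l

variable {G : Type u} [Group G] [Fintype G] {S : Type v} [Group S] [Fintype S] (C : Config G S)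

/-- Invariance of a function on the group. -/
def Config.InvG (χ : G → ℂ) : Prop := ∀ s g, χ (C.φ s g) = χ g

/-- Invariance of a function on the complement. -/
def Config.InvH (ψ : C.H → ℂ) : Prop := ∀ s (h : C.H), ψ ⟨C.φ s h, C.φ_mem_H s h.2⟩ = ψ h

/-- Lying over the bottom character. -/
def Config.OverG (χ : G → ℂ) : Prop := ∃ a : ℂ, ∀ l : C.B.L, χ l = a * C.B.σ.character l

/-- Lying over the bottom character. -/
def Config.OverH (ψ : C.H → ℂ) : Prop :=
  ∃ a : ℂ, ∀ l : C.B.L, ψ ⟨(l : G), C.L_le_H l.2⟩ = a * C.B.σ.character l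

/-- Odd multiplicity. -/
def Config.OddMult (χ : G → ℂ) (ψ : C.H → ℂ) : Prop :=
  ∃ m : ℕ, classInner (fun h : C.H => χ (h : G)) ψ = (m : ℂ) ∧ Odd m

theorem Config.exists_rep {χ : G → ℂ} (hχ : IsIrrCharacter G χ) (ho : C.OverG χ) :
    ∃ p : OverRep C.B, p.ρ.IsIrreducible ∧ p.ρ.character = χ := by
  obtain ⟨n, ρ, hρ, rfl⟩ := hχ
  exact ⟨⟨n, ρ, ho⟩, hρ, rfl⟩

theorem Config.f_spec (p : OverRep C.B) [p.ρ.IsIrreducible] (hR : C.Rel p) :
    ∃ (ε : ℤ) (μ : IrrCharacter C.H), (ε = 1 ∨ ε = -1) ∧ C.f p = (ε : ℂ) • (μ : C.H → ℂ) ∧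
      ∀ ψ : IrrCharacter C.H, C.OddMult p.ρ.character ψ ↔ ψ = μ := by
  classical
  have hn : classInner (C.f p) (C.f p) = 1 := by
    rw [C.classInner_f p p hR hR, classInner_irreducible_self]
  obtain ⟨ε, μ, hε, hf⟩ := exists_signed_irr_of_norm_one (C.f_isGeneralized p hR) hn
  refine ⟨ε, μ, hε, hf, fun ψ => ?_⟩
  obtain ⟨e, he, hfe⟩ := C.f_parity p hR
  obtain ⟨a, ha⟩ := he.exists_nat_classInner ψ.2.isCharacter
  have hres : (fun h : C.H => p.ρ.character (h : G)) = (2 : ℂ) • e - (ε : ℂ) • (μ : C.H → ℂ) := by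
    funext h
    rw [Pi.sub_apply, Pi.smul_apply, ← hf, smul_eq_mul, hfe]
    ring
  have hδ : classInner (μ : C.H → ℂ) (ψ : C.H → ℂ) = ((if ψ = μ then 1 else 0 : ℤ) : ℂ) := by
    rw [classInner_irr μ.2 ψ.2]
    by_cases h : ψ = μ
    · subst h; simp
    · rw [if_neg h, if_neg fun h' => h (Subtype.ext h'.symm)]; simp
  have hval : classInner (fun h : C.H => p.ρ.character (h : G)) (ψ : C.H → ℂ) =
      ((2 * (a : ℤ) - ε * (if ψ = μ then 1 else 0) : ℤ) : ℂ) := by
    rw [hres, classInner_sub_left, classInner_smul_left, classInner_smul_left, ha, hδ]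
    push_cast
    ring
  unfold Config.OddMult
  constructor
  · rintro ⟨m, hm, hodd⟩
    rw [hval] at hm
    have h1 : 2 * (a : ℤ) - ε * (if ψ = μ then 1 else 0) = (m : ℤ) := by exact_mod_cast hm
    by_contra hne
    rw [if_neg hne, mul_zero, sub_zero] at h1
    obtain ⟨c, rfl⟩ := hodd
    push_cast at h1
    omega
  · intro h
    obtain ⟨m, hm⟩ := ((isCharacter_character p.ρ).comp C.H.subtype).exists_nat_classInner
      ψ.2.isCharacter
    refine ⟨m, hm, ?_⟩
    have h1 : 2 * (a : ℤ) - ε * (if ψ = μ then 1 else 0) = (m : ℤ) := by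
      have := hval.symm.trans hm
      exact_mod_cast this
    rw [if_pos h, mul_one] at h1
    rw [Nat.odd_iff]
    omega

theorem Config.char_eq_of_f (p p' : OverRep C.B) [p.ρ.IsIrreducible] [p'.ρ.IsIrreducible]
    (hR : C.Rel p) (hR' : C.Rel p') {μ : C.H → ℂ} (hμ : IsIrrCharacter C.H μ) {ε ε' : ℤ}
    (hε : ε ≠ 0) (hε' : ε' ≠ 0) (hf : C.f p = (ε : ℂ) • μ) (hf' : C.f p' = (ε' : ℂ) • μ) :
    p.ρ.character = p'.ρ.character := by
  by_contra hne
  have h := C.classInner_f p p' hR hR'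
  rw [classInner_irr_ne (isIrrCharacter_character p'.ρ) (isIrrCharacter_character p.ρ)
    (Ne.symm hne), hf, hf', classInner_smul_left, classInner_smul_right, classInner_irr_self hμ,
    map_intCast, mul_one] at h
  rcases mul_eq_zero.mp h with h1 | h1
  · exact hε' (Int.cast_eq_zero.mp h1)
  · exact hε (Int.cast_eq_zero.mp h1)

/-- Existence and uniqueness of the constituent of odd multiplicity. -/
theorem Config.exists_partner {χ : G → ℂ} (hχ : IsIrrCharacter G χ) (hi : C.InvG χ)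
    (ho : C.OverG χ) :
    ∃ μ : IrrCharacter C.H, C.InvH μ ∧ ∀ ψ : IrrCharacter C.H, C.OddMult χ ψ ↔ ψ = μ := by
  obtain ⟨p, hp, rfl⟩ := C.exists_rep hχ ho
  have hR := C.rel_of_invariant p hi
  obtain ⟨ε, μ, hε, hf, hμ⟩ := C.f_spec p hR
  refine ⟨μ, fun s h => ?_, hμ⟩
  have h1 := C.f_invariant p hi s h
  rw [hf, Pi.smul_apply, Pi.smul_apply] at h1
  refine smul_right_injective ℂ ?_ h1
  rcases hε with rfl | rfl <;> simp

/-- Injectivity. -/
theorem Config.partner_injective {χ χ' : G → ℂ} (hχ : IsIrrCharacter G χ) (hi : C.InvG χ)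
    (ho : C.OverG χ) (hχ' : IsIrrCharacter G χ') (hi' : C.InvG χ') (ho' : C.OverG χ')
    (ψ : IrrCharacter C.H) (h : C.OddMult χ ψ) (h' : C.OddMult χ' ψ) : χ = χ' := by
  obtain ⟨p, hp, rfl⟩ := C.exists_rep hχ ho
  obtain ⟨p', hp', rfl⟩ := C.exists_rep hχ' ho'
  have hR := C.rel_of_invariant p hi
  have hR' := C.rel_of_invariant p' hi'
  obtain ⟨ε, μ, hε, hf, hμ⟩ := C.f_spec p hR
  obtain ⟨ε', μ', hε', hf', hμ'⟩ := C.f_spec p' hR'
  obtain rfl := (hμ ψ).mp h
  obtain rfl := (hμ' ψ).mp h'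
  exact C.char_eq_of_f p p' hR hR' ψ.2 (by omega) (by omega) hf hf'

theorem Config.overG_indFun {ψ : C.H → ℂ} (ho : C.OverH ψ) : C.OverG (indFun C.H ψ) := by
  obtain ⟨a, ha⟩ := ho
  refine ⟨(Nat.card C.H : ℂ)⁻¹ * (Nat.card G : ℂ) * a, fun l => ?_⟩
  have h : ∀ x : G, extendByZero C.H ψ (x⁻¹ * l * x) = a * C.B.σ.character l := fun x => by
    have hm : x⁻¹ * (l : G) * x ∈ C.B.L := C.B.normal.conj_mem' _ l.2 x
    rw [extendByZero_of_mem C.H _ (C.L_le_H hm), ha ⟨_, hm⟩, C.B.inv x⁻¹ l ⟨_, hm⟩ (by simp)]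
  simp only [indFun, h, Finset.sum_const, Finset.card_univ, nsmul_eq_mul,
    ← Nat.card_eq_fintype_card]
  ring

theorem Config.indFun_off {ψ : C.H → ℂ} {g : G} (hg : g ∈ C.Y.K) (hg' : g ∉ C.B.L) :
    indFun C.H ψ g = 0 := by
  have h : ∀ x : G, extendByZero C.H ψ (x⁻¹ * g * x) = 0 := fun x => by
    refine extendByZero_of_notMem C.H ψ fun hH => hg' ?_
    have hm : x⁻¹ * g * x ∈ C.B.L := C.inf ▸ ⟨C.Y.normal.conj_mem' g hg x, hH⟩
    simpa [mul_assoc] using C.B.normal.conj_mem _ hm x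
  simp only [indFun, h, Finset.sum_const_zero, mul_zero]

/-- A relevant constituent of odd multiplicity. -/
theorem Config.exists_rel_odd (ψ : IrrCharacter C.H) (ho : C.OverH ψ) :
    ∃ p : OverRep C.B, p.ρ.IsIrreducible ∧ C.Rel p ∧ C.OddMult p.ρ.character ψ := by
  classical
  by_contra hne
  have hΦ : IsCharacter G (indFun C.H (ψ : C.H → ℂ)) := isCharacter_indFun C.H ψ.2.isCharacter
  obtain ⟨n, ρ, hρ⟩ := hΦ
  have hoΦ := C.overG_indFun ho
  let q : OverRep C.B := ⟨n, ρ, by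
    obtain ⟨a, ha⟩ := hoΦ
    exact ⟨a, fun l => by rw [← ha l, ← hρ]; rfl⟩⟩
  choose k a hk htr using fun r : C.R => C.exists_trace 1 (r : Sect C.Y)
  let t : (G → ℂ) → C.R → ℂ := fun χ r => ∑ l : C.B.L, a r l * χ (1 * k r * l)
  have hq : ∀ r : C.R, LinearMap.trace ℂ _ (C.xe q r) = t (indFun C.H (ψ : C.H → ℂ)) r := fun r => by
    have h := htr r q
    rw [map_one, one_mul] at h
    rw [h]
    show _ = ∑ l : C.B.L, a r l * indFun C.H (ψ : C.H → ℂ) (1 * k r * l)
    rw [← hρ]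
  have hsum : ∑ r : C.R, t (indFun C.H (ψ : C.H → ℂ)) r = indFun C.H (ψ : C.H → ℂ) 1 := by
    rw [Finset.sum_eq_single 1 (fun r _ hr => ?_) (fun h => absurd (Finset.mem_univ _) h),
      ← hq, show (((1 : C.R) : Sect C.Y)) = 1 from rfl, C.xe_one, LinearMap.trace_one, ← hρ,
      Representation.char_one]
    refine Finset.sum_eq_zero fun l _ => ?_
    rw [one_mul, C.indFun_off (C.Y.K.mul_mem (k r).2 (C.Y.le l.2)), mul_zero]
    intro hm
    refine hr (Subtype.ext ?_)
    rw [← hk r]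
    refine (QuotientGroup.eq_one_iff _).mpr (Subgroup.mem_subgroupOf.mpr ?_)
    simpa using C.B.L.mul_mem hm (C.B.L.inv_mem l.2)
  set Φ := indFun C.H (ψ : C.H → ℂ) with hΦdef
  have hΦc : IsCharacter G Φ := ⟨n, ρ, hρ⟩
  choose m hm using fun χ : IrrCharacter G => hΦc.exists_nat_classInner χ.2.isCharacter
  have hlin : ∑ r : C.R, t Φ r = ∑ χ : IrrCharacter G, (m χ : ℂ) * ∑ r, t (χ : G → ℂ) r := by
    simp only [t, Finset.mul_sum]
    refine Eq.trans ?_ Finset.sum_comm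
    refine Finset.sum_congr rfl fun r _ => ?_
    refine Eq.trans ?_ Finset.sum_comm
    refine Finset.sum_congr rfl fun l _ => ?_
    conv_lhs => rw [eq_sum_classInner hΦc.isClassFunction, Finset.sum_apply, Finset.mul_sum]
    refine Finset.sum_congr rfl fun χ _ => ?_
    rw [Pi.smul_apply, smul_eq_mul, hm]
    ring
  have heven : ∀ χ : IrrCharacter G, ∃ c : ℕ,
      (m χ : ℂ) * ∑ r, t (χ : G → ℂ) r = ((2 * c : ℕ) : ℂ) := by
    intro χ
    rcases Nat.eq_zero_or_pos (m χ) with h0 | hpos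
    · exact ⟨0, by rw [h0]; simp⟩
    have hne0 : classInner Φ (χ : G → ℂ) ≠ 0 := by
      rw [hm]; exact Nat.cast_ne_zero.mpr hpos.ne'
    obtain ⟨p, hp, hpc⟩ := C.exists_rep χ.2 (over_of_constituent C.B.L.subtype
      (isIrrCharacter_character C.B.σ) hΦc hoΦ χ.2 hne0)
    have ht : ∑ r, t (χ : G → ℂ) r = ∑ r : C.R, LinearMap.trace ℂ _ (C.xe p r) := by
      refine Finset.sum_congr rfl fun r _ => ?_
      have h := htr r p
      rw [map_one, one_mul] at h
      rw [h, hpc]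
    rw [ht, C.trace_sum_R p]
    split_ifs with hR
    · have hev : ¬ Odd (m χ) := fun hodd => hne ⟨p, hp, hR, m χ, by
        rw [hpc]
        have h1 : classInner (χ : G → ℂ) Φ = (m χ : ℂ) := by
          rw [← classInner_conj_symm, hm, Complex.conj_natCast]
        rwa [hΦdef, classInner_indFun_right C.H _ χ.2.isClassFunction] at h1, hodd⟩
      obtain ⟨b, hb⟩ := Nat.not_odd_iff_even.mp hev
      exact ⟨b * Nat.card C.R * p.n, by rw [hb]; push_cast; ring⟩
    · exact ⟨0, by simp⟩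
  choose c hc using heven
  rw [hlin, Finset.sum_congr rfl (fun χ _ => hc χ), hΦdef, indFun_apply_one] at hsum
  obtain ⟨d, -, hd⟩ := ψ.2.exists_degree
  have hdvd : d ∣ Nat.card C.H := degree_dvd_card ψ.2 hd
  rw [hd] at hsum
  have h1 : (∑ χ, 2 * c χ) = C.H.index * d := by exact_mod_cast hsum
  have hodd : Odd (C.H.index * d) :=
    (C.Y.odd.of_dvd_nat (Subgroup.index_dvd_card _)).mul
      (C.Y.odd.of_dvd_nat (hdvd.trans (Subgroup.card_subgroup_dvd_card _)))
  rw [← h1, ← Finset.mul_sum] at hodd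
  exact (Nat.not_odd_iff_even.mpr (even_two_mul _)) hodd

/-- Surjectivity. -/
theorem Config.partner_surjective (ψ : IrrCharacter C.H) (hi : C.InvH ψ) (ho : C.OverH ψ) :
    ∃ χ : G → ℂ, IsIrrCharacter G χ ∧ C.InvG χ ∧ C.OverG χ ∧ C.OddMult χ ψ := by
  obtain ⟨p, hp, hR, hodd⟩ := C.exists_rel_odd ψ ho
  refine ⟨p.ρ.character, isIrrCharacter_character p.ρ, fun s g => ?_, p.over, hodd⟩
  obtain ⟨ε, μ, hε, hf, hμ⟩ := C.f_spec p hR
  obtain rfl := (hμ ψ).mp hodd
  haveI : (C.twistRep s p).ρ.IsIrreducible := by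
    rw [isIrreducible_iff_isIrrCharacter]
    exact (isIrrCharacter_character p.ρ).comp_surjective (C.φ s).toMonoidHom (C.φ s).surjective
  have hf' : C.f (C.twistRep s p) = (ε : ℂ) • (ψ : C.H → ℂ) := by
    funext h
    rw [← C.f_op, hf, Pi.smul_apply, Pi.smul_apply, hi s h]
  exact congrFun (C.char_eq_of_f p (C.twistRep s p) hR (C.rel_twist p hR s) ψ.2 (by omega)
    (by omega) hf hf').symm g

end Cfsg.Lib.Char.SectionParity
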