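import Cfsg.Agent.Lib.Char.SectionParity.Setting

/-!
# The equivariant section, its radical and its traces
-/

set_option autoImplicit false
set_option linter.unusedSectionVars false
set_option linter.style.haveILetI false

namespace Cfsg.Lib.Char.SectionParity

open Cfsg Module Cfsg.Lib.Char
open scoped ComplexConjugate

universe u v

variable {G : Type u} [Group G] [Fintype G] {S : Type v} [Group S] [Fintype S] (C : Config G S)

theorem Twist.αV_bijective {B : Below G} {Y : Layer B} (t : Twist Y) :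
    Function.Bijective t.αV := by
  refine Finite.injective_iff_bijective.mp ((injective_iff_map_eq_one t.αV).mpr fun v hv => ?_)
  obtain ⟨k, rfl⟩ := QuotientGroup.mk_surjective v
  rw [show t.αV (k : Sect Y) = ((⟨t.α k, t.mapK k k.2⟩ : Y.K) : Sect Y) from rfl,
    QuotientGroup.eq_one_iff, Subgroup.mem_subgroupOf] at hv
  obtain ⟨l', hl', he⟩ := t.surjL _ hv
  rw [QuotientGroup.eq_one_iff, Subgroup.mem_subgroupOf, ← t.α.injective he]
  exact hl'

/-- The chosen equivariant section. -/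
noncomputable def Config.x : Sect C.Y → (Tot C.B)ˣ := C.exists_x.choose

theorem Config.x_inV (v : Sect C.Y) : InV C.Y v (C.x v) := C.exists_x.choose_spec.1 v

theorem Config.x_mul (v w : Sect C.Y) :
    C.x v * C.x w = sc C.B (half C.Y v w) * C.x (v * w) := C.exists_x.choose_spec.2.1 v w

/-- An operator on the section. -/
noncomputable abbrev Config.αS (s : S) : Sect C.Y →* Sect C.Y := (C.twistS s).αV

/-- A conjugation on the section. -/
noncomputable abbrev Config.αG (g : G) : Sect C.Y →* Sect C.Y := (C.twistConj g).αV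

theorem Config.x_op (s : S) (v : Sect C.Y) : (C.twistS s).Φu (C.x v) = C.x (C.αS s v) :=
  C.exists_x.choose_spec.2.2.1 s v

theorem Config.x_conj {h : G} (hh : h ∈ C.H) (v : Sect C.Y) :
    U C.B h * C.x v * (U C.B h)⁻¹ = C.x (C.αG h v) := C.exists_x.choose_spec.2.2.2 h hh v

theorem Config.αG_mul (g g' : G) (v : Sect C.Y) : C.αG (g * g') v = C.αG g (C.αG g' v) := by
  obtain ⟨k, rfl⟩ := QuotientGroup.mk_surjective v
  simp only [Config.αG, C.αV_mk]
  refine congrArg QuotientGroup.mk (Subtype.ext ?_)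
  show MulAut.conj (g * g') (k : G) = MulAut.conj g (MulAut.conj g' (k : G))
  rw [map_mul]; rfl

theorem Config.αG_one (v : Sect C.Y) : C.αG 1 v = v :=
  (C.twistConj 1).αV_bijective.injective (by rw [← C.αG_mul, one_mul])

theorem Config.αG_inv (g : G) (v : Sect C.Y) : C.αG g⁻¹ (C.αG g v) = v := by
  rw [← C.αG_mul, inv_mul_cancel, C.αG_one]

theorem Config.αS_mul (s s' : S) (v : Sect C.Y) : C.αS (s * s') v = C.αS s (C.αS s' v) := by
  obtain ⟨k, rfl⟩ := QuotientGroup.mk_surjective v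
  simp only [Config.αS, C.αV_mk]
  refine congrArg QuotientGroup.mk (Subtype.ext ?_)
  show C.φ (s * s') k = C.φ s (C.φ s' k)
  rw [map_mul]; rfl

theorem Config.αS_one (v : Sect C.Y) : C.αS 1 v = v :=
  (C.twistS 1).αV_bijective.injective (by rw [← C.αS_mul, one_mul])

theorem Config.αS_αG {h : G} (hh : h ∈ C.H) (s : S) (v : Sect C.Y) :
    C.αS s (C.αG h v) = C.αG h (C.αS s v) :=
  congrArg Lifts.v (C.conjH_comm h hh s ⟨v, C.x v, C.x_inV v⟩)

theorem Config.free' (v : Sect C.Y) (h : ∀ s, C.αS s v = v) : v = 1 := by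
  obtain ⟨O, hO⟩ := C.exists_ops
  exact O.free v (by rw [hO]; exact h)

theorem Config.x_one : C.x 1 = 1 := by
  have h := C.x_mul 1 1
  rw [half_one_left, map_one, one_mul, one_mul] at h
  exact mul_eq_left.mp h

theorem Config.x_inv (v : Sect C.Y) : C.x v⁻¹ = (C.x v)⁻¹ := by
  refine eq_inv_of_mul_eq_one_left ?_
  rw [C.x_mul, inv_mul_cancel, C.x_one, half_inv_left, half_self, inv_one, map_one, one_mul]

theorem Config.x_inE (k : C.Y.K) : InE C.B (k : G) (C.x (k : Sect C.Y)) := by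
  obtain ⟨k', hk', hE⟩ := C.x_inV (k : Sect C.Y)
  rw [QuotientGroup.eq, Subgroup.mem_subgroupOf] at hk'
  have := hE.mul_mem C.B ⟨_, hk'⟩
  simpa using this

theorem Config.x_comm_L (v : Sect C.Y) (l : C.B.L) : C.x v * U C.B l = U C.B l * C.x v := by
  obtain ⟨k, rfl⟩ := QuotientGroup.mk_surjective v
  exact (C.x_inE k).comm l

theorem Config.U_conj_x (k : C.Y.K) (v : Sect C.Y) :
    U C.B (k : G) * C.x v = sc C.B (pair C.Y (k : Sect C.Y) v) * (C.x v * U C.B (k : G)) := by
  obtain ⟨X, hX⟩ := (C.x_inE k).mem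
  have hU : U C.B (k : G) = C.x (k : Sect C.Y) * ju C.B X⁻¹ := by
    rw [hX, map_inv, mul_inv_cancel_right]
  obtain ⟨j, rfl⟩ := QuotientGroup.mk_surjective v
  rw [hU, mul_assoc, ← (C.x_inE j).commute_ju, ← mul_assoc, pair_spec C.Y (C.x_inV _) (C.x_inV _)]
  simp only [mul_assoc]

/-- The radical of the pairing. -/
def Config.R : Subgroup (Sect C.Y) where
  carrier := {r | ∀ w, pair C.Y r w = 1}
  one_mem' := pair_one_left C.Y
  mul_mem' ha hb w := by rw [pair_mul_left, ha w, hb w, one_mul]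
  inv_mem' {a} ha w := by
    have h := pair_mul_left C.Y a⁻¹ a w
    rw [inv_mul_cancel, pair_one_left, ha w, mul_one] at h
    exact h.symm

theorem Config.mem_R {r : Sect C.Y} : r ∈ C.R ↔ ∀ w, pair C.Y r w = 1 := Iff.rfl

theorem Config.half_R {r : Sect C.Y} (hr : r ∈ C.R) (w : Sect C.Y) : half C.Y r w = 1 := by
  rw [half, hr w, one_pow]

theorem Config.pair_R {r : Sect C.Y} (hr : r ∈ C.R) (w : Sect C.Y) : pair C.Y w r = 1 := by
  have := pair_swap C.Y w r
  rwa [hr w, mul_one] at this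

theorem Twist.mem_R {r : Sect C.Y} (t : Twist C.Y) (hr : r ∈ C.R) : t.αV r ∈ C.R := fun w => by
  obtain ⟨w', rfl⟩ := t.αV_bijective.surjective w
  rw [t.pair]
  exact hr w'

/-- The section inside one representation. -/
noncomputable def Config.xe (p : OverRep C.B) (v : Sect C.Y) : Module.End ℂ (Fin p.n → ℂ) :=
  ((C.x v : (Tot C.B)ˣ) : Tot C.B) p

theorem Config.xe_mul (p : OverRep C.B) (v w : Sect C.Y) :
    C.xe p v * C.xe p w = (half C.Y v w : ℂ) • C.xe p (v * w) := by
  have h := congrArg (fun y : (Tot C.B)ˣ => (y : Tot C.B) p) (C.x_mul v w)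
  simp only [Units.val_mul, Pi.mul_apply, sc_val, smul_one_mul, Pi.smul_apply] at h
  exact h

theorem Config.xe_one (p : OverRep C.B) : C.xe p 1 = 1 := by
  rw [Config.xe, C.x_one]; rfl

theorem Config.xe_inv_mul (p : OverRep C.B) (v : Sect C.Y) :
    C.xe p v⁻¹ * C.xe p v = 1 := by
  rw [C.xe_mul, half_inv_left, half_self, inv_one, inv_mul_cancel, C.xe_one, Units.val_one,
    one_smul]

theorem Config.xe_mul_inv (p : OverRep C.B) (v : Sect C.Y) :
    C.xe p v * C.xe p v⁻¹ = 1 := by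
  have := C.xe_inv_mul p v⁻¹
  rwa [inv_inv] at this

theorem Config.xe_H (p : OverRep C.B) {h : G} (hh : h ∈ C.H) (v : Sect C.Y) :
    p.ρ h * C.xe p v = C.xe p (C.αG h v) * p.ρ h := by
  have h1 : U C.B h * C.x v = C.x (C.αG h v) * U C.B h := by
    rw [← C.x_conj hh, inv_mul_cancel_right]
  exact congrArg (fun y : (Tot C.B)ˣ => (y : Tot C.B) p) h1

theorem Config.xe_K (p : OverRep C.B) (k : C.Y.K) (v : Sect C.Y) :
    p.ρ (k : G) * C.xe p v =
      (pair C.Y (k : Sect C.Y) v : ℂ) • (C.xe p v * p.ρ (k : G)) := by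
  have h := congrArg (fun y : (Tot C.B)ˣ => (y : Tot C.B) p) (C.U_conj_x k v)
  simp only [Units.val_mul, Pi.mul_apply, sc_val, smul_one_mul, Pi.smul_apply, U_val,
    act_apply] at h
  exact h

theorem Config.exists_trace (g : G) (v : Sect C.Y) :
    ∃ (k : C.Y.K) (a : C.B.L → ℂ), (k : Sect C.Y) = v ∧ ∀ p : OverRep C.B,
      LinearMap.trace ℂ _ (p.ρ g * C.xe p v) =
        ∑ l : C.B.L, a l * p.ρ.character (g * k * l) := by
  obtain ⟨k, rfl⟩ := QuotientGroup.mk_surjective v
  obtain ⟨X, hX⟩ := (C.x_inE k).mem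
  refine ⟨k, coef C.B X, rfl, fun p => ?_⟩
  rw [← trace_U_mul_j (g * k : G) (X : Module.End ℂ (Fin C.B.m → ℂ)) p, map_mul (act C.B),
    mul_assoc (act C.B g),
    Pi.mul_apply, Config.xe, hX]
  rfl

/-- Traces depend on the character only. -/
theorem Config.trace_congr {p q : OverRep C.B} (h : p.ρ.character = q.ρ.character) (g : G)
    (v : Sect C.Y) :
    LinearMap.trace ℂ _ (p.ρ g * C.xe p v) = LinearMap.trace ℂ _ (q.ρ g * C.xe q v) := by
  obtain ⟨k, a, -, ha⟩ := C.exists_trace g v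
  rw [ha, ha, h]

theorem Config.trace_op (s : S) (p : OverRep C.B) (g : G) (v : Sect C.Y) :
    LinearMap.trace ℂ _ (p.ρ (C.φ s g) * C.xe p (C.αS s v)) =
      LinearMap.trace ℂ _ ((C.twistRep s p).ρ g * C.xe (C.twistRep s p) v) := by
  have h1 : (C.twistS s).Φu (U C.B g * C.x v) = U C.B (C.φ s g) * C.x (C.αS s v) := by
    rw [map_mul, Twist.map_U, C.x_op]; rfl
  have h2 := congrArg (fun y : (Tot C.B)ˣ => (y : Tot C.B) p) h1
  simp only [C.twistS_apply] at h2
  exact congrArg (LinearMap.trace ℂ _) h2.symm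

theorem Config.trace_op_eq (s : S) (p : OverRep C.B)
    (hinv : ∀ g, p.ρ.character (C.φ s g) = p.ρ.character g) (g : G) (v : Sect C.Y) :
    LinearMap.trace ℂ _ (p.ρ (C.φ s g) * C.xe p (C.αS s v)) =
      LinearMap.trace ℂ _ (p.ρ g * C.xe p v) :=
  (C.trace_op s p g v).trans (C.trace_congr (funext hinv) g v)

end Cfsg.Lib.Char.SectionParity
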