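import Cfsg.Agent.Lib.Char.Orthogonality
import Cfsg.Agent.Lib.Char.ExtGroup

/-!
# Representations whose restriction to a normal subgroup is a multiple of one character

All such representations of `G` at once form a ring in which the span of the normal subgroup is a
copy of the full matrix algebra of that character.
-/

set_option autoImplicit false
set_option linter.unusedSectionVars false
set_option linter.style.haveILetI false

namespace Cfsg.Lib.Char.SectionParity

open Cfsg Module Cfsg.Lib.Char
open scoped ComplexConjugate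

universe u v

section Isotypic

variable {L : Type u} [Group L] [Fintype L] {m : ℕ} (σ : Representation ℂ L (Fin m → ℂ))
  [σ.IsIrreducible]

/-- The character is a multiple of that of `σ`. -/
def Iso {W : Type v} [AddCommGroup W] [Module ℂ W] (ρ : Representation ℂ L W) : Prop :=
  ∃ a : ℂ, ∀ l, ρ.character l = a * σ.character l

theorem iso_constituent {W : Type v} [AddCommGroup W] [Module ℂ W] [FiniteDimensional ℂ W]
    {ρ : Representation ℂ L W} (h : Iso σ ρ) (p q : Subrepresentation ρ)
    (hpq : IsCompl p.toSubmodule q.toSubmodule) (hp : p.toRepresentation.IsIrreducible) :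
    Nonempty (σ.Equiv p.toRepresentation) ∧ Iso σ q.toRepresentation := by
  obtain ⟨a, ha⟩ := h
  have hμ : IsIrrCharacter L p.toRepresentation.character := isIrrCharacter_character _
  have hsum := character_eq_add_of_isCompl p q hpq
  have hρ : ρ.character = a • σ.character := funext fun l => ha l
  have heq : σ.character = p.toRepresentation.character := by
    by_contra hne
    have h1 : classInner ρ.character p.toRepresentation.character = 0 := by
      rw [hρ, classInner_smul_left, classInner_irr_ne (isIrrCharacter_character σ) hμ hne,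
        mul_zero]
    rw [hsum, classInner_add_left, classInner_irreducible_self, classInner_character] at h1
    norm_cast at h1
    omega
  refine ⟨nonempty_equiv_of_character_eq _ _ heq, a - 1, fun l => ?_⟩
  have h1 := congrFun hsum l
  rw [Pi.add_apply, ha, ← heq] at h1
  linear_combination -h1

theorem iso_vanish {W : Type v} [AddCommGroup W] [Module ℂ W] [FiniteDimensional ℂ W]
    {ρ : Representation ℂ L W} (h : Iso σ ρ) (c : L → ℂ) (hc : ∑ l, c l • σ l = 0) :
    ∑ l, c l • ρ l = 0 := by
  suffices H : ∀ (n : ℕ) (W : Type v) [AddCommGroup W] [Module ℂ W] [FiniteDimensional ℂ W]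
      (ρ : Representation ℂ L W), finrank ℂ W = n → Iso σ ρ → ∑ l, c l • ρ l = 0 from
    H _ W ρ rfl h
  intro n
  induction n using Nat.strong_induction_on with
  | _ n ih =>
    intro W _ _ _ ρ hn hρ
    rcases subsingleton_or_nontrivial W with hW | hW
    · exact Subsingleton.elim _ _
    obtain ⟨p, hp⟩ := exists_irreducible_subrep ρ
    obtain ⟨q, hpq⟩ := exists_isCompl_subrep ρ p
    obtain ⟨⟨e⟩, hq⟩ := iso_constituent σ hρ p q hpq hp
    have hlt : finrank ℂ q.toSubmodule < n := by
      have h1 := finrank_add_of_isCompl p q hpq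
      have h2 := irreducible_finrank_pos p.toRepresentation
      omega
    have hq0 := ih _ hlt q.toSubmodule q.toRepresentation rfl hq
    apply LinearMap.ext
    intro w
    obtain ⟨x, hx, y, hy, rfl⟩ := Submodule.mem_sup.mp
      (hpq.sup_eq_top ▸ Submodule.mem_top : w ∈ p.toSubmodule ⊔ q.toSubmodule)
    have hy0 : (∑ l, c l • ρ l) y = 0 := by
      have := congrArg Subtype.val (LinearMap.congr_fun hq0 ⟨y, hy⟩)
      simp [LinearMap.sum_apply] at this ⊢
      exact this
    have hx0 : (∑ l, c l • ρ l) x = 0 := by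
      obtain ⟨z, hz⟩ := e.toLinearEquiv.surjective ⟨x, hx⟩
      have h1 : (∑ l, c l • p.toRepresentation l) (e.toLinearEquiv z) =
          e.toLinearEquiv ((∑ l, c l • σ l) z) := by
        simp only [LinearMap.sum_apply, LinearMap.smul_apply, map_sum, map_smul]
        refine Finset.sum_congr rfl fun l _ => ?_
        congr 1
        exact (LinearMap.congr_fun (e.toIntertwiningMap.isIntertwining' l) z).symm
      rw [hc, LinearMap.zero_apply, map_zero, hz] at h1
      have := congrArg Subtype.val h1
      simp [LinearMap.sum_apply] at this ⊢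
      exact this
    rw [map_add, hx0, hy0, add_zero, LinearMap.zero_apply]

theorem iso_reflect {W : Type v} [AddCommGroup W] [Module ℂ W] [FiniteDimensional ℂ W]
    [Nontrivial W] {ρ : Representation ℂ L W} (h : Iso σ ρ) (c : L → ℂ)
    (hc : ∑ l, c l • ρ l = 0) : ∑ l, c l • σ l = 0 := by
  obtain ⟨p, hp⟩ := exists_irreducible_subrep ρ
  obtain ⟨q, hpq⟩ := exists_isCompl_subrep ρ p
  obtain ⟨⟨e⟩, -⟩ := iso_constituent σ h p q hpq hp
  apply LinearMap.ext
  intro z
  apply e.toLinearEquiv.injective
  rw [LinearMap.zero_apply, map_zero]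
  simp only [LinearMap.sum_apply, LinearMap.smul_apply, map_sum, map_smul]
  have h1 : ∀ l, e.toLinearEquiv (σ l z) = p.toRepresentation l (e.toLinearEquiv z) := fun l =>
    LinearMap.congr_fun (e.toIntertwiningMap.isIntertwining' l) z
  simp only [h1]
  apply Subtype.ext
  have := LinearMap.congr_fun hc (e.toLinearEquiv z : W)
  simp [LinearMap.sum_apply] at this ⊢
  exact this

theorem fourier (X : Module.End ℂ (Fin m → ℂ)) :
    ∑ l : L, LinearMap.trace ℂ _ (X * σ l⁻¹) • σ l = ((Nat.card L : ℂ) / m) • X := by
  have hm : (m : ℂ) ≠ 0 := by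
    have := irreducible_finrank_pos σ
    rw [Module.finrank_fin_fun] at this
    exact Nat.cast_ne_zero.mpr this.ne'
  have key : ∀ Y : Module.End ℂ (Fin m → ℂ),
      ∑ n : L, σ n * Y * σ n⁻¹ = ((Nat.card L : ℂ) * LinearMap.trace ℂ _ Y / m) • 1 := by
    intro Y
    obtain ⟨c, hc⟩ := exists_smul_of_comm σ (∑ n : L, σ n * Y * σ n⁻¹) fun g => by
      rw [Finset.sum_mul, Finset.mul_sum]
      refine Fintype.sum_equiv (Equiv.mulLeft g⁻¹) _ _ fun n => ?_
      simp only [Equiv.coe_mulLeft]
      rw [mul_inv_rev, inv_inv, ← mul_assoc (σ g), ← mul_assoc (σ g), ← map_mul σ g,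
        mul_inv_cancel_left, map_mul σ n⁻¹ g, mul_assoc, mul_assoc]
    have hc' := congrArg (fun f => LinearMap.trace ℂ _ f) hc
    simp only [map_sum, map_smul, smul_eq_mul, LinearMap.trace_one, Module.finrank_fin_fun] at hc'
    rw [Finset.sum_congr rfl (g := fun _ => LinearMap.trace ℂ _ Y) (fun n _ => by
      rw [LinearMap.trace_mul_comm ℂ (σ n * Y), ← mul_assoc, ← map_mul, inv_mul_cancel, map_one,
        one_mul]), Finset.sum_const, Finset.card_univ, nsmul_eq_mul,
      ← Nat.card_eq_fintype_card] at hc'
    rw [hc, hc', mul_div_cancel_right₀ _ hm]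
  let φ : Module.End ℂ (Fin m → ℂ) ≃ₐ[ℂ] Matrix (Fin m) (Fin m) ℂ := LinearMap.toMatrixAlgEquiv'
  have htr : ∀ f : Module.End ℂ (Fin m → ℂ), LinearMap.trace ℂ _ f = ∑ i, φ f i i := fun f => by
    rw [LinearMap.trace_eq_matrix_trace ℂ (Pi.basisFun ℂ (Fin m)), Matrix.trace]
    rfl
  have h1 : ∀ i j a b : Fin m, ∑ n : L, φ (σ n) i a * φ (σ n⁻¹) b j =
      if a = b then (if i = j then (Nat.card L : ℂ) / m else 0) else 0 := by
    intro i j a b
    have h := congrArg (fun f => φ f i j) (key (φ.symm (Matrix.single a b 1)))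
    simp only [map_sum, map_mul, map_smul, map_one, Matrix.sum_apply, Matrix.smul_apply, htr,
      AlgEquiv.apply_symm_apply, smul_eq_mul] at h
    rw [Finset.sum_congr rfl (g := fun n => φ (σ n) i a * φ (σ n⁻¹) b j) (fun n _ => by
      rw [Matrix.mul_apply, Finset.sum_eq_single b (fun c _ hc => by
        rw [Matrix.mul_apply, Finset.sum_eq_zero fun d _ => ?_, zero_mul]
        rw [Matrix.single_apply, if_neg fun h => hc h.2.symm, mul_zero]) (by simp),
        Matrix.mul_apply, Finset.sum_eq_single a (fun d _ hd => by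
          rw [Matrix.single_apply, if_neg fun h => hd h.1.symm, mul_zero]) (by simp),
        Matrix.single_apply, if_pos ⟨rfl, rfl⟩, mul_one])] at h
    rw [h]
    by_cases hab : a = b
    · subst hab
      rw [if_pos rfl, Finset.sum_eq_single a (fun c _ hc => by simp [Ne.symm hc]) (by simp),
        Matrix.single_apply, if_pos ⟨rfl, rfl⟩, mul_one, Matrix.one_apply]
      split_ifs <;> simp
    · rw [if_neg hab, Finset.sum_eq_zero fun c _ => Matrix.single_apply_of_ne _ _ _ _ _
        (fun h => hab (h.1.trans h.2.symm))]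
      simp
  apply φ.injective
  ext i j
  simp only [map_sum, map_smul, Matrix.sum_apply, Matrix.smul_apply, htr, smul_eq_mul, map_mul,
    Matrix.mul_apply]
  calc ∑ l : L, (∑ a, ∑ b, φ X a b * φ (σ l⁻¹) b a) * φ (σ l) i j
      = ∑ a, ∑ b, φ X a b * ∑ l : L, φ (σ l) i j * φ (σ l⁻¹) b a := by
        simp only [Finset.sum_mul, Finset.mul_sum]
        rw [Finset.sum_comm]
        refine Finset.sum_congr rfl fun a _ => ?_
        rw [Finset.sum_comm]
        exact Finset.sum_congr rfl fun b _ => Finset.sum_congr rfl fun l _ => by ring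
    _ = _ := by
        simp only [h1, mul_ite, mul_zero]
        simp [Finset.sum_ite_eq, eq_comm, mul_comm]

end Isotypic

end Cfsg.Lib.Char.SectionParity
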