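import Cfsg.Agent.Lib.Char.SectionParity.Core
import Cfsg.Agent.Lib.Char.Clifford2

/-!
# The inertia group of an invariant character below the section
-/

set_option autoImplicit false
set_option linter.unusedSectionVars false
set_option linter.style.haveILetI false

namespace Cfsg.Lib.Char.SectionParity

open Cfsg Module Cfsg.Lib.Char
open scoped ComplexConjugate

universe u v

/-- The layout of a section with operators in a group. -/
structure Layout (G : Type u) [Group G] [Fintype G] (S : Type v) [Group S] where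
  K : Subgroup G
  L : Subgroup G
  H : Subgroup G
  nK : K.Normal
  nL : L.Normal
  le : L ≤ K
  comm : ∀ a ∈ K, ∀ b ∈ K, a * b * a⁻¹ * b⁻¹ ∈ L
  odd : Odd (Nat.card G)
  inf : K ⊓ H = L
  top : ∀ g : G, ∃ k ∈ K, ∃ h ∈ H, g = k * h
  φ : S →* MulAut G
  mapL : ∀ s, ∀ l ∈ L, φ s l ∈ L
  mapK : ∀ s, ∀ k ∈ K, φ s k ∈ K
  triv : ∀ s, ∀ h ∈ H, φ s h * h⁻¹ ∈ L
  coprime : (Nat.card S).Coprime (Nat.card G)
  free : ∀ k ∈ K, (∀ s, φ s k * k⁻¹ ∈ L) → k ∈ L

variable {G : Type u} [Group G] [Fintype G] {S : Type v} [Group S] [Fintype S] (D : Layout G S)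

instance : D.L.Normal := D.nL
instance : D.K.Normal := D.nK
noncomputable instance : Fintype D.L := Fintype.ofFinite _
noncomputable instance : Fintype D.H := Fintype.ofFinite _

theorem Layout.L_le_H : D.L ≤ D.H := D.inf ▸ inf_le_right

/-- Invariance on the bottom subgroup. -/
def Layout.InvL (θ : D.L → ℂ) : Prop := ∀ s (l : D.L), θ ⟨D.φ s l, D.mapL s l l.2⟩ = θ l

theorem Layout.φ_inv_apply (s : S) (g : G) : D.φ s⁻¹ (D.φ s g) = g := by
  rw [← MulAut.mul_apply, ← map_mul, inv_mul_cancel, map_one]; rfl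

theorem Layout.φ_apply_inv (s : S) (g : G) : D.φ s (D.φ s⁻¹ g) = g := by
  rw [← MulAut.mul_apply, ← map_mul, mul_inv_cancel, map_one]; rfl

theorem Layout.conjTwist_op {θ : D.L → ℂ} (hθ : D.InvL θ) (g : G) (s : S) (l : D.L) :
    conjTwist D.L θ g ⟨D.φ s l, D.mapL s l l.2⟩ = conjTwist D.L θ (D.φ s⁻¹ g) l := by
  simp only [conjTwist_apply]
  rw [← hθ s ⟨D.φ s⁻¹ g * l * (D.φ s⁻¹ g)⁻¹, D.nL.conj_mem _ l.2 _⟩]
  refine congrArg θ (Subtype.ext ?_)
  show g * D.φ s l * g⁻¹ = D.φ s (D.φ s⁻¹ g * l * (D.φ s⁻¹ g)⁻¹)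
  rw [map_mul (D.φ s), map_mul (D.φ s), map_inv (D.φ s), D.φ_apply_inv]

theorem Layout.invL_conjTwist {θ : D.L → ℂ} (hc : IsClassFunction D.L θ) (hθ : D.InvL θ) {h : G}
    (hh : h ∈ D.H) : D.InvL (conjTwist D.L θ h) := fun s l => by
  have hl := D.triv s⁻¹ h hh
  rw [D.conjTwist_op hθ, show D.φ s⁻¹ h = D.φ s⁻¹ h * h⁻¹ * h by rw [inv_mul_cancel_right],
    ← conjTwist_conjTwist, mem_inertia _ |>.mp (le_inertia D.L hc hl)]

theorem Layout.op_mem_inertia {θ : D.L → ℂ} (hθ : D.InvL θ) (s : S) {g : G}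
    (hg : g ∈ inertia D.L θ) : D.φ s g ∈ inertia D.L θ := by
  refine (mem_inertia _).mpr (funext fun l => ?_)
  have h1 := D.conjTwist_op hθ g s⁻¹ l
  rw [inv_inv] at h1
  rw [← h1, (mem_inertia _).mp hg, hθ]

/-- The quotient of the section. -/
abbrev Layout.Q : Type u := ↥D.K ⧸ D.L.subgroupOf D.K

instance : (D.L.subgroupOf D.K).Normal := D.nL.subgroupOf D.K

theorem Layout.q_comm (v w : D.Q) : v * w = w * v := by
  obtain ⟨a, rfl⟩ := QuotientGroup.mk_surjective v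
  obtain ⟨b, rfl⟩ := QuotientGroup.mk_surjective w
  rw [← QuotientGroup.mk_mul, ← QuotientGroup.mk_mul, QuotientGroup.eq, Subgroup.mem_subgroupOf]
  have h := D.comm (b⁻¹ : D.K) (inv_mem b.2) (a⁻¹ : D.K) (inv_mem a.2)
  simpa [mul_assoc] using h

noncomputable instance : CommGroup D.Q :=
  { (inferInstance : Group D.Q) with mul_comm := D.q_comm }

theorem Layout.mem_inertia_of_fixed {θ : D.L → ℂ} (hc : IsClassFunction D.L θ) {k : G}
    (hk : k ∈ D.K) (h : ∀ s, conjTwist D.L θ (D.φ s k) = conjTwist D.L θ k) :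
    k ∈ inertia D.L θ := by
  classical
  set T := inertia D.L θ with hT
  have hs : ∀ s, D.φ s k * k⁻¹ ∈ T := fun s => by
    rw [hT, mem_inertia, ← conjTwist_conjTwist, h s, conjTwist_conjTwist, mul_inv_cancel,
      conjTwist_one]
  let M : Subgroup D.Q := (T.subgroupOf D.K).map (QuotientGroup.mk' _)
  let q : S → D.Q := fun s => ((⟨D.φ s k, D.mapK s k hk⟩ : D.K) : D.Q)
  set P := ∏ s, q s with hP
  have hP1 : P = 1 := by
    obtain ⟨y, hy⟩ := QuotientGroup.mk_surjective P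
    rw [← hy, QuotientGroup.eq_one_iff, Subgroup.mem_subgroupOf]
    refine D.free _ y.2 fun s₀ => ?_
    let α : D.Q →* D.Q := QuotientGroup.map _ _
      { toFun := fun a : D.K => (⟨D.φ s₀ (a : G), D.mapK s₀ a a.2⟩ : D.K)
        map_one' := Subtype.ext (map_one (D.φ s₀))
        map_mul' := fun a b => Subtype.ext (map_mul (D.φ s₀) (a : G) (b : G)) }
      (fun a ha => Subgroup.mem_subgroupOf.mpr (D.mapL s₀ a (Subgroup.mem_subgroupOf.mp ha)))
    have h1 : α P = P := by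
      rw [hP, map_prod]
      refine Fintype.prod_equiv (Equiv.mulLeft s₀) _ _ fun s => ?_
      show (QuotientGroup.mk _ : D.Q) = QuotientGroup.mk _
      refine congrArg QuotientGroup.mk (Subtype.ext ?_)
      show D.φ s₀ (D.φ s k) = D.φ (s₀ * s) k
      rw [map_mul]; rfl
    rw [← hy] at h1
    have h2 := QuotientGroup.eq.mp h1.symm
    rw [Subgroup.mem_subgroupOf] at h2
    have h3 := D.nL.conj_mem _ h2 (y : G)
    simpa [mul_assoc] using h3
  have hpow : ((⟨k, hk⟩ : D.K) : D.Q) ^ Nat.card S ∈ M := by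
    have h1 : P = ((⟨k, hk⟩ : D.K) : D.Q) ^ Nat.card S *
        ∏ s, ((⟨D.φ s k * k⁻¹, D.K.mul_mem (D.mapK s k hk) (D.K.inv_mem hk)⟩ : D.K) : D.Q) := by
      rw [Nat.card_eq_fintype_card, ← Finset.card_univ, ← Finset.prod_const,
        ← Finset.prod_mul_distrib, hP]
      refine Finset.prod_congr rfl fun s _ => ?_
      rw [mul_comm, ← QuotientGroup.mk_mul]
      exact congrArg QuotientGroup.mk (Subtype.ext (inv_mul_cancel_right _ _).symm)
    rw [hP1, eq_comm, mul_eq_one_iff_eq_inv] at h1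
    rw [h1]
    exact M.inv_mem (prod_mem fun s _ => ⟨⟨_, D.K.mul_mem (D.mapK s k hk) (D.K.inv_mem hk)⟩,
      Subgroup.mem_subgroupOf.mpr (hs s), rfl⟩)
  rw [← QuotientGroup.mk_pow] at hpow
  obtain ⟨t, ht, he⟩ := hpow
  rw [QuotientGroup.mk'_apply, QuotientGroup.eq, Subgroup.mem_subgroupOf] at he
  have h4 : k ^ Nat.card S ∈ T := by
    have h5 := T.mul_mem (Subgroup.mem_subgroupOf.mp ht) (le_inertia D.L hc he)
    simpa using h5
  obtain ⟨m, hm⟩ := exists_pow_eq_self_of_coprime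
    (D.coprime.coprime_dvd_right (orderOf_dvd_natCard k))
  rw [← hm]
  exact pow_mem h4 m

theorem Layout.mem_inertia_of_invL {θ : D.L → ℂ} (hc : IsClassFunction D.L θ) (hθ : D.InvL θ)
    {k h : G} (hk : k ∈ D.K) (hh : h ∈ D.H) (hi : D.InvL (conjTwist D.L θ (k * h))) :
    k ∈ inertia D.L θ := by
  have hc' : IsClassFunction D.L (conjTwist D.L θ (k * h)) := fun a b => by
    simp only [conjTwist_apply]
    rw [← hc ⟨k * h * a * (k * h)⁻¹, D.nL.conj_mem _ a.2 _⟩
      ⟨k * h * b * (k * h)⁻¹, D.nL.conj_mem _ b.2 _⟩]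
    exact congrArg θ (Subtype.ext (by push_cast; group))
  have hk' : D.InvL (conjTwist D.L θ k) := by
    have := D.invL_conjTwist hc' hi (D.H.inv_mem hh)
    rwa [conjTwist_conjTwist, mul_inv_cancel_right] at this
  refine D.mem_inertia_of_fixed hc hk fun s => funext fun l => ?_
  have h1 := D.conjTwist_op hθ k s⁻¹ l
  rw [inv_inv] at h1
  rw [← h1, hk' s⁻¹ l]

theorem Layout.exists_decomp {θ : D.L → ℂ} (hc : IsClassFunction D.L θ) (hθ : D.InvL θ) {g : G}
    (hg : g ∈ inertia D.L θ) :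
    ∃ k ∈ D.K, ∃ h ∈ D.H, k ∈ inertia D.L θ ∧ h ∈ inertia D.L θ ∧ g = k * h := by
  obtain ⟨k, hk, h, hh, rfl⟩ := D.top g
  have hkT := D.mem_inertia_of_invL hc hθ hk hh (by rw [(mem_inertia _).mp hg]; exact hθ)
  refine ⟨k, hk, h, hh, hkT, ?_, rfl⟩
  have := mul_mem (inv_mem hkT) hg
  rwa [inv_mul_cancel_left] at this

/-- Invariant constituents below the section are conjugate under the complement. -/
theorem Layout.exists_conj_in_H {θ θ' : D.L → ℂ} (hc : IsClassFunction D.L θ) (hθ : D.InvL θ)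
    (hθ' : D.InvL θ') {g : G} (he : conjTwist D.L θ g = θ') :
    ∃ h ∈ D.H, conjTwist D.L θ h = θ' := by
  obtain ⟨k, hk, h, hh, rfl⟩ := D.top g
  have hkT := D.mem_inertia_of_invL hc hθ hk hh (by rw [he]; exact hθ')
  exact ⟨h, hh, by rw [← he, ← conjTwist_conjTwist, (mem_inertia _).mp hkT]⟩

end Cfsg.Lib.Char.SectionParity
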