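import Cfsg.Agent.Lib.Char.SectionParity.Tau

/-!
# Orthogonality of the class functions of the complement
-/

set_option autoImplicit false
set_option linter.unusedSectionVars false
set_option linter.style.haveILetI false

namespace Cfsg.Lib.Char.SectionParity

open Cfsg Module Cfsg.Lib.Char
open scoped ComplexConjugate

universe u v

variable {G : Type u} [Group G] [Fintype G] {S : Type v} [Group S] [Fintype S] (C : Config G S)

theorem lop_sum_left {V : Type*} [AddCommGroup V] [Module ℂ V] {W : Type*} [AddCommGroup W]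
    [Module ℂ W] {ι : Type*} [Fintype ι] (A : ι → Module.End ℂ W) (B : Module.End ℂ V) :
    lop (∑ i, A i) B = ∑ i, lop (A i) B :=
  LinearMap.ext fun X => by
    rw [LinearMap.sum_apply]
    show (∑ i, A i) ∘ₗ X ∘ₗ B = ∑ i, A i ∘ₗ X ∘ₗ B
    exact LinearMap.ext fun v => by simp [LinearMap.sum_apply]

theorem lop_sum_right {V : Type*} [AddCommGroup V] [Module ℂ V] {W : Type*} [AddCommGroup W]
    [Module ℂ W] {ι : Type*} [Fintype ι] (A : Module.End ℂ W) (B : ι → Module.End ℂ V) :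
    lop A (∑ i, B i) = ∑ i, lop A (B i) :=
  LinearMap.ext fun X => by
    rw [LinearMap.sum_apply]
    show A ∘ₗ X ∘ₗ (∑ i, B i) = ∑ i, A ∘ₗ X ∘ₗ B i
    exact LinearMap.ext fun v => by simp [LinearMap.sum_apply]

theorem lop_one {V : Type*} [AddCommGroup V] [Module ℂ V] {W : Type*} [AddCommGroup W]
    [Module ℂ W] : lop (1 : Module.End ℂ W) (1 : Module.End ℂ V) = 1 :=
  LinearMap.ext fun _ => rfl

variable (p p' : OverRep C.B)

/-- The group on the homomorphisms. -/
noncomputable def Config.actHom (g : G) :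
    Module.End ℂ ((Fin p.n → ℂ) →ₗ[ℂ] (Fin p'.n → ℂ)) := lop (p'.ρ g) (p.ρ g⁻¹)

/-- The section on the homomorphisms. -/
noncomputable def Config.secHom (v : Sect C.Y) :
    Module.End ℂ ((Fin p.n → ℂ) →ₗ[ℂ] (Fin p'.n → ℂ)) := lop (C.xe p' v) (C.xe p v⁻¹)

/-- The involution on the homomorphisms. -/
noncomputable def Config.invHom :
    Module.End ℂ ((Fin p.n → ℂ) →ₗ[ℂ] (Fin p'.n → ℂ)) := lop (C.τ p') (C.τ p)

theorem Config.actHom_mul (g g' : G) :
    C.actHom p p' g * C.actHom p p' g' = C.actHom p p' (g * g') := by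
  rw [Config.actHom, Config.actHom, lop_mul, ← map_mul, ← map_mul, ← mul_inv_rev]; rfl

theorem Config.secHom_mul (v w : Sect C.Y) :
    C.secHom p p' v * C.secHom p p' w = C.secHom p p' (v * w) := by
  rw [Config.secHom, Config.secHom, lop_mul, C.xe_mul, C.xe_mul, lop_smul, ← Units.val_mul,
    half_inv_left, half_inv_right, inv_inv, half_swap, Units.val_one, one_smul, ← mul_inv_rev]
  rfl

theorem Config.secHom_one : C.secHom p p' 1 = 1 := by
  rw [Config.secHom, inv_one, C.xe_one, C.xe_one, lop_one]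

theorem Config.invHom_mul_secHom (w : Sect C.Y) :
    C.invHom p p' * C.secHom p p' w = C.secHom p p' w⁻¹ * C.invHom p p' := by
  rw [Config.invHom, Config.secHom, Config.secHom, lop_mul, lop_mul, C.τ_mul_xe, inv_inv,
    C.τ_mul_xe]

theorem Config.actHom_mul_secHom {h : G} (hh : h ∈ C.H) (v : Sect C.Y) :
    C.actHom p p' h * C.secHom p p' v = C.secHom p p' (C.αG h v) * C.actHom p p' h := by
  have h1 : C.xe p v⁻¹ * p.ρ h⁻¹ = p.ρ h⁻¹ * C.xe p (C.αG h v)⁻¹ := by
    rw [C.xe_H p (inv_mem hh), ← map_inv, C.αG_inv]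
  rw [Config.actHom, Config.secHom, Config.secHom, lop_mul, lop_mul, C.xe_H p' hh, h1]

/-- The sum of the section on the homomorphisms. -/
noncomputable def Config.secSum : Module.End ℂ ((Fin p.n → ℂ) →ₗ[ℂ] (Fin p'.n → ℂ)) :=
  ∑ v, C.secHom p p' v

theorem Config.actHom_comm_secSum {h : G} (hh : h ∈ C.H) :
    C.actHom p p' h * C.secSum p p' = C.secSum p p' * C.actHom p p' h := by
  rw [Config.secSum, Finset.mul_sum, Finset.sum_mul]
  exact Fintype.sum_bijective _ (C.twistConj h).αV_bijective _ _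
    fun v => C.actHom_mul_secHom p p' hh v

theorem Config.invHom_mul_secSum (hR' : C.Rel p') :
    C.invHom p p' * C.secSum p p' = C.secSum p p' := by
  have h1 : ∀ w, lop (1 : Module.End ℂ (Fin p'.n → ℂ)) (C.xe p w) * C.secSum p p' =
      lop (C.xe p' w) (1 : Module.End ℂ (Fin p.n → ℂ)) * C.secSum p p' := by
    intro w
    have h2 : lop (1 : Module.End ℂ (Fin p'.n → ℂ)) (C.xe p w) =
        lop (C.xe p' w) (1 : Module.End ℂ (Fin p.n → ℂ)) * C.secHom p p' w⁻¹ := by
      rw [Config.secHom, lop_mul, C.xe_mul_inv, inv_inv, mul_one]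
    rw [h2, mul_assoc, Config.secSum, Finset.mul_sum]
    congr 1
    exact Fintype.sum_equiv (Equiv.mulLeft w⁻¹) _ _ fun v => C.secHom_mul p p' w⁻¹ v
  have h3 : lop (1 : Module.End ℂ (Fin p'.n → ℂ)) (C.T p) * C.secSum p p' =
      lop (C.T p') (1 : Module.End ℂ (Fin p.n → ℂ)) * C.secSum p p' := by
    rw [Config.T, Config.T, lop_sum_right, lop_sum_left, Finset.sum_mul, Finset.sum_mul]
    exact Finset.sum_congr rfl fun w _ => h1 w
  have h4 : lop (C.T p') (C.T p) =
      lop (C.T p') (1 : Module.End ℂ (Fin p.n → ℂ)) *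
        lop (1 : Module.End ℂ (Fin p'.n → ℂ)) (C.T p) := by
    rw [lop_mul, mul_one, mul_one]
  rw [Config.invHom, Config.τ, Config.τ, lop_smul, smul_mul_assoc, h4, mul_assoc, h3, ← mul_assoc,
    lop_mul, mul_one, C.T_sq p' hR', C.cst_sq]
  conv_lhs => rw [← one_smul ℂ (1 : Module.End ℂ (Fin p.n → ℂ)), lop_smul, lop_one, mul_one,
    smul_one_mul, smul_smul]
  rw [inv_mul_cancel₀ (mul_ne_zero card_cast_ne_zero card_cast_ne_zero), one_smul]

theorem Config.exists_eq_αG_mul {h : G} (u : Sect C.Y) :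
    ∃ w, u = C.αG h w * w := by
  let f : Sect C.Y →* Sect C.Y := C.αG h * MonoidHom.id _
  suffices hinj : Function.Injective f by
    obtain ⟨w, hw⟩ := (Finite.injective_iff_bijective.mp hinj).2 u
    exact ⟨w, hw.symm⟩
  refine (injective_iff_map_eq_one f).mpr fun w hw => ?_
  have h1 : C.αG h w = w⁻¹ := eq_inv_of_mul_eq_one_left hw
  have h2 : ∀ j : ℕ, C.αG (h ^ (2 * j)) w = w := by
    intro j
    induction j with
    | zero => rw [Nat.mul_zero, pow_zero, C.αG_one]
    | succ j ih =>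
      rw [show 2 * (j + 1) = 2 * j + 1 + 1 by ring, pow_succ, pow_succ, C.αG_mul, C.αG_mul, h1,
        map_inv, h1, inv_inv, ih]
  obtain ⟨m, hm⟩ := C.Y.odd
  have h3 := h2 (m + 1)
  rw [show 2 * (m + 1) = Nat.card G + 1 by omega, pow_succ, pow_card_eq_one', one_mul, h1] at h3
  have h4 : w ^ 2 = 1 := by
    rw [pow_two]
    conv_lhs => arg 1; rw [← h3]
    exact inv_mul_cancel w
  have h5 : w ^ Nat.card G = 1 := orderOf_dvd_iff_pow_eq_one.mp ((orderOf_dvd_natCard w).trans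
    ((Subgroup.card_quotient_dvd_card _).trans (Subgroup.card_subgroup_dvd_card _)))
  have h6 : (2 : ℕ).Coprime (Nat.card G) := C.Y.odd.coprime_two_left
  have := pow_gcd_eq_one.mpr ⟨h4, h5⟩
  rwa [h6, pow_one] at this

theorem Config.trace_invHom_actHom {h : G} (hh : h ∈ C.H) (u : Sect C.Y) :
    LinearMap.trace ℂ _ (C.invHom p p' * C.actHom p p' h * C.secHom p p' u) =
      LinearMap.trace ℂ _ (C.invHom p p' * C.actHom p p' h) := by
  obtain ⟨w, rfl⟩ := C.exists_eq_αG_mul (h := h⁻¹) u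
  have h1 : C.invHom p p' * C.actHom p p' h * C.secHom p p' (C.αG h⁻¹ w * w) =
      C.secHom p p' w⁻¹ * (C.invHom p p' * C.actHom p p' h) * C.secHom p p' w := by
    rw [← C.secHom_mul, ← mul_assoc, mul_assoc (C.invHom p p'), C.actHom_mul_secHom p p' hh,
      ← C.αG_mul, mul_inv_cancel, C.αG_one]
    rw [← mul_assoc, C.invHom_mul_secHom]
    simp only [mul_assoc]
  rw [h1, LinearMap.trace_mul_comm, ← mul_assoc, C.secHom_mul, mul_inv_cancel, C.secHom_one,
    one_mul]

theorem Config.trace_invHom_eq (h : C.H) :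
    LinearMap.trace ℂ _ (C.invHom p p' * C.actHom p p' (h : G)) = C.f p' h * C.f p h⁻¹ := by
  rw [Config.invHom, Config.actHom, lop_mul, trace_lop, LinearMap.trace_mul_comm ℂ (p.ρ _)]
  rfl

theorem Config.secHom_mul_sum (k : C.Y.K) :
    C.secHom p p' (k : Sect C.Y) * ∑ h : C.H, C.actHom p p' (h : G) =
      C.actHom p p' (k : G) * ∑ h : C.H, C.actHom p p' (h : G) := by
  obtain ⟨X, hX⟩ := (C.x_inE k).mem
  have e1 : C.xe p' (k : Sect C.Y) =
      p'.ρ (k : G) * j C.B (X : Module.End ℂ (Fin C.B.m → ℂ)) p' := by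
    rw [Config.xe, hX]; rfl
  have e2 : C.xe p (k : Sect C.Y)⁻¹ =
      j C.B ((X⁻¹ : (Module.End ℂ (Fin C.B.m → ℂ))ˣ) : Module.End ℂ (Fin C.B.m → ℂ)) p *
        p.ρ (k : G)⁻¹ := by
    rw [Config.xe, C.x_inv, hX, mul_inv_rev, ← map_inv, ← map_inv]; rfl
  refine LinearMap.ext fun Y => ?_
  set Z := (∑ h : C.H, C.actHom p p' (h : G)) Y with hZdef
  have hZ : ∀ l : C.B.L, p'.ρ (l : G) ∘ₗ Z = Z ∘ₗ p.ρ (l : G) := by
    intro l
    rw [hZdef, LinearMap.sum_apply]
    refine LinearMap.ext fun z => ?_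
    simp only [LinearMap.comp_apply, LinearMap.sum_apply, map_sum]
    refine Fintype.sum_equiv (Equiv.mulLeft (⟨(l : G), C.L_le_H l.2⟩ : C.H)) _ _ fun h => ?_
    show p'.ρ (l : G) (p'.ρ (h : G) (Y (p.ρ (h : G)⁻¹ z))) =
      p'.ρ ((l : G) * h) (Y (p.ρ ((l : G) * h)⁻¹ (p.ρ (l : G) z)))
    rw [mul_inv_rev, map_mul, map_mul]
    simp only [Module.End.mul_apply]
    rw [← Module.End.mul_apply (p.ρ (l : G)⁻¹), ← map_mul p.ρ, inv_mul_cancel, map_one]
    rfl
  have hspan : ∀ c : C.B.L → ℂ, span C.B c p' ∘ₗ Z = Z ∘ₗ span C.B c p := by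
    intro c
    rw [span_apply, Finset.sum_apply, Finset.sum_apply]
    refine LinearMap.ext fun z => ?_
    simp only [LinearMap.comp_apply, LinearMap.sum_apply, Pi.smul_apply, LinearMap.smul_apply,
      act_apply, map_sum, map_smul]
    refine Finset.sum_congr rfl fun l _ => ?_
    congr 1
    exact LinearMap.congr_fun (hZ l) z
  show lop (C.xe p' (k : Sect C.Y)) (C.xe p (k : Sect C.Y)⁻¹) Z =
    lop (p'.ρ (k : G)) (p.ρ (k : G)⁻¹) Z
  rw [e1, e2]
  show (p'.ρ (k : G) ∘ₗ (j C.B _ p')) ∘ₗ Z ∘ₗ ((j C.B _ p) ∘ₗ p.ρ (k : G)⁻¹) =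
    p'.ρ (k : G) ∘ₗ Z ∘ₗ p.ρ (k : G)⁻¹
  simp only [LinearMap.comp_assoc]
  congr 1
  rw [← LinearMap.comp_assoc, show j C.B (X : Module.End ℂ (Fin C.B.m → ℂ)) p' ∘ₗ Z =
    Z ∘ₗ j C.B (X : Module.End ℂ (Fin C.B.m → ℂ)) p from hspan _, LinearMap.comp_assoc]
  congr 1
  rw [← LinearMap.comp_assoc, ← Module.End.mul_eq_comp (j C.B _ p), ← Pi.mul_apply, ← j_mul,
    Units.mul_inv, j_one, Pi.one_apply]
  rfl

/-- The decomposition of the group along the section. -/
noncomputable def Config.split : Sect C.Y × C.H ≃ G :=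
  Equiv.ofBijective (fun x => ((Quotient.out x.1 : C.Y.K) : G) * x.2) (by
    have hout : ∀ v : Sect C.Y, ((Quotient.out v : C.Y.K) : Sect C.Y) = v := Quotient.out_eq
    constructor
    · rintro ⟨v, h⟩ ⟨w, g⟩ he
      set a := (Quotient.out v : C.Y.K) with ha
      set b := (Quotient.out w : C.Y.K) with hb
      replace he : (a : G) * h = (b : G) * g := he
      have h1 : (a : G)⁻¹ * b = (h : G) * (g : G)⁻¹ := by
        rw [eq_mul_inv_iff_mul_eq, mul_assoc, ← he, inv_mul_cancel_left]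
      have h2 : (a : G)⁻¹ * b ∈ C.B.L := by
        rw [← C.inf]
        exact ⟨C.Y.K.mul_mem (C.Y.K.inv_mem a.2) b.2,
          h1 ▸ C.H.mul_mem h.2 (C.H.inv_mem g.2)⟩
      have h3 : v = w := by
        rw [← hout v, ← hout w]
        exact QuotientGroup.eq.mpr (Subgroup.mem_subgroupOf.mpr h2)
      subst h3
      exact Prod.ext rfl (Subtype.ext (mul_left_cancel he))
    · intro g
      obtain ⟨k, hk, h, hh, rfl⟩ := C.top g
      set v : Sect C.Y := ((⟨k, hk⟩ : C.Y.K) : Sect C.Y) with hv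
      have h1 : ((Quotient.out v : C.Y.K) : G)⁻¹ * k ∈ C.B.L := by
        have := QuotientGroup.eq.mp (hout v)
        exact Subgroup.mem_subgroupOf.mp this
      refine ⟨(v, ⟨_ * h, C.H.mul_mem (C.L_le_H h1) hh⟩), ?_⟩
      simp [mul_assoc])

theorem Config.card_eq : Nat.card G = Nat.card (Sect C.Y) * Nat.card C.H := by
  rw [← Nat.card_prod, Nat.card_congr C.split]

/-- Orthogonality. -/
theorem Config.classInner_f (hR : C.Rel p) (hR' : C.Rel p') :
    classInner (C.f p') (C.f p) = classInner p'.ρ.character p.ρ.character := by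
  have h1 : ∀ h : C.H, (Nat.card (Sect C.Y) : ℂ) * (C.f p' h * C.f p h⁻¹) =
      LinearMap.trace ℂ _ (C.secSum p p' * C.actHom p p' (h : G)) := by
    intro h
    conv_rhs => rw [← C.invHom_mul_secSum p p' hR', mul_assoc,
      ← C.actHom_comm_secSum p p' h.2, ← mul_assoc, Config.secSum, Finset.mul_sum, map_sum]
    rw [Finset.sum_congr rfl fun u _ => C.trace_invHom_actHom p p' h.2 u, Finset.sum_const,
      Finset.card_univ, nsmul_eq_mul, C.trace_invHom_eq, Nat.card_eq_fintype_card]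
  have h2 : (Nat.card (Sect C.Y) : ℂ) * ∑ h : C.H, C.f p' h * C.f p h⁻¹ =
      ∑ g : G, p'.ρ.character g * p.ρ.character g⁻¹ := by
    rw [Finset.mul_sum, Finset.sum_congr rfl fun h _ => h1 h, ← map_sum, ← Finset.mul_sum,
      Config.secSum, Finset.sum_mul, map_sum, ← C.split.sum_comp, Fintype.sum_prod_type]
    refine Finset.sum_congr rfl fun v _ => ?_
    have hv : v = (((Quotient.out v : C.Y.K)) : Sect C.Y) := (Quotient.out_eq v).symm
    conv_lhs => rw [hv, C.secHom_mul_sum, Finset.mul_sum, map_sum]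
    refine Finset.sum_congr rfl fun h _ => ?_
    rw [C.actHom_mul, Config.actHom, trace_lop]
    rfl
  have hf : ∀ h : C.H, conj (C.f p h) = C.f p h⁻¹ := fun h =>
    ((C.f_isGeneralized p hR).apply_inv h).symm
  have hχ : ∀ g : G, conj (p.ρ.character g) = p.ρ.character g⁻¹ := fun g =>
    (character_inv p.ρ g).symm
  simp only [classInner, hf, hχ]
  rw [← h2, C.card_eq, Nat.cast_mul, mul_inv, ← mul_assoc, mul_comm
    (Nat.card (Sect C.Y) : ℂ)⁻¹, mul_assoc (Nat.card C.H : ℂ)⁻¹,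
    inv_mul_cancel₀ card_cast_ne_zero, mul_one]

end Cfsg.Lib.Char.SectionParity
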