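import Cfsg.Agent.Lib.Char.SectionParity.Facts

/-!
# An irreducible representation of invariant character is trivial on the radical
-/

set_option autoImplicit false
set_option linter.unusedSectionVars false
set_option linter.style.haveILetI false

namespace Cfsg.Lib.Char.SectionParity

open Cfsg Module Cfsg.Lib.Char
open scoped ComplexConjugate

universe u v

variable {G : Type u} [Group G] [Fintype G] {S : Type v} [Group S] [Fintype S] (C : Config G S)

/-- The representation is trivial on the radical. -/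
def Config.Rel (p : OverRep C.B) : Prop := ∀ r ∈ C.R, C.xe p r = 1

noncomputable instance : Fintype C.R := Fintype.ofFinite _

/-- A twist on the radical. -/
noncomputable def Config.tR (t : Twist C.Y) : C.R →* C.R where
  toFun r := ⟨t.αV r, t.mem_R C r.2⟩
  map_one' := Subtype.ext (map_one _)
  map_mul' a b := Subtype.ext (map_mul _ _ _)

theorem Config.tR_bijective (t : Twist C.Y) : Function.Bijective (C.tR t) :=
  Finite.injective_iff_bijective.mp fun _ _ h =>
    Subtype.ext (t.αV_bijective.injective (congrArg Subtype.val h))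

/-- The radical acting in a representation. -/
noncomputable def Config.repR (p : OverRep C.B) : Representation ℂ C.R (Fin p.n → ℂ) where
  toFun r := C.xe p r
  map_one' := C.xe_one p
  map_mul' a b := by
    rw [C.xe_mul, C.half_R a.2, Units.val_one, one_smul]; rfl

theorem Config.repR_apply (p : OverRep C.B) (r : C.R) : C.repR p r = C.xe p r := rfl

/-- The projection to an eigenspace of the radical. -/
noncomputable def Config.proj (p : OverRep C.B) (ν : C.R →* ℂˣ) :
    Module.End ℂ (Fin p.n → ℂ) :=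
  (Nat.card C.R : ℂ)⁻¹ • ∑ r, (((ν r)⁻¹ : ℂˣ) : ℂ) • C.repR p r

theorem Config.repR_mul_proj (p : OverRep C.B) (ν : C.R →* ℂˣ) (r : C.R) :
    C.repR p r * C.proj p ν = (ν r : ℂ) • C.proj p ν := by
  unfold Config.proj
  rw [mul_smul_comm, smul_comm (ν r : ℂ), Finset.mul_sum, Finset.smul_sum (r := (ν r : ℂ))]
  refine congrArg ((Nat.card C.R : ℂ)⁻¹ • ·) ?_
  refine Fintype.sum_equiv (Equiv.mulLeft r) _ _ fun a => ?_
  simp only [Equiv.coe_mulLeft, mul_smul_comm, smul_smul]
  rw [← map_mul (C.repR p)]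
  congr 1
  rw [← Units.val_mul, map_mul, mul_inv, mul_inv_cancel_left]

open Classical in
theorem Config.proj_mul_proj (p : OverRep C.B) (μ ν : C.R →* ℂˣ) :
    C.proj p μ * C.proj p ν = if μ = ν then C.proj p ν else 0 := by
  have h : C.proj p μ * C.proj p ν =
      ((Nat.card C.R : ℂ)⁻¹ * ∑ r : C.R, ((Units.coeHom ℂ).comp (μ⁻¹ * ν)) r) • C.proj p ν := by
    conv_lhs => arg 1; unfold Config.proj
    rw [smul_mul_assoc, Finset.sum_mul, mul_smul, Finset.sum_smul]
    congr 1
    refine Finset.sum_congr rfl fun r _ => ?_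
    rw [smul_mul_assoc, C.repR_mul_proj, smul_smul]
    congr 1
  rw [h, sum_hom_units]
  have hiff : ((Units.coeHom ℂ).comp (μ⁻¹ * ν) = 1) ↔ μ = ν := by
    constructor
    · intro h1
      ext r
      have h2 := DFunLike.congr_fun h1 r
      simp only [MonoidHom.coe_comp, Function.comp_apply, MonoidHom.mul_apply,
        MonoidHom.inv_apply, Units.coeHom_apply, MonoidHom.one_apply, Units.val_eq_one,
        inv_mul_eq_one] at h2
      rw [h2]
    · rintro rfl
      ext r
      simp
  split_ifs with h1 h2 h2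
  · rw [← Nat.card_eq_fintype_card, inv_mul_cancel₀ card_cast_ne_zero, one_smul]
  · exact absurd (hiff.mp h1) h2
  · exact absurd (hiff.mpr h2) h1
  · rw [Nat.cast_zero, mul_zero, zero_smul]

theorem Config.proj_isIdempotent (p : OverRep C.B) (ν : C.R →* ℂˣ) :
    IsIdempotentElem (C.proj p ν) := by
  rw [IsIdempotentElem, C.proj_mul_proj, if_pos rfl]

theorem Config.exists_proj_ne (p : OverRep C.B) [p.ρ.IsIrreducible] :
    ∃ ν : C.R →* ℂˣ, C.proj p ν ≠ 0 := by
  haveI : Nontrivial (Fin p.n → ℂ) :=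
    Module.nontrivial_of_finrank_pos (R := ℂ) (irreducible_finrank_pos p.ρ)
  obtain ⟨q, hq⟩ := exists_irreducible_subrep (C.repR p)
  haveI : Nontrivial q.toSubmodule :=
    Module.nontrivial_of_finrank_pos (R := ℂ) (irreducible_finrank_pos q.toRepresentation)
  choose c hc using fun r : C.R => exists_smul_of_comm q.toRepresentation (q.toRepresentation r)
    (fun g => by rw [← map_mul, ← map_mul, mul_comm])
  let c' : C.R →* ℂ :=
    { toFun := c
      map_one' := smul_one_injective (by rw [← hc, map_one, one_smul])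
      map_mul' := fun a b => smul_one_injective (by
        rw [← hc, map_mul, hc, hc, smul_mul_smul_comm, mul_one]) }
  refine ⟨c'.toHomUnits, fun h0 => ?_⟩
  obtain ⟨z, hz⟩ := exists_ne (0 : q.toSubmodule)
  refine hz (Subtype.ext ?_)
  have h1 : ∀ r, C.repR p r (z : Fin p.n → ℂ) = c r • (z : Fin p.n → ℂ) := fun r => by
    have h := congrArg Subtype.val (LinearMap.congr_fun (hc r) z)
    simp at h
    exact h
  have h2 := LinearMap.congr_fun h0 (z : Fin p.n → ℂ)
  simp only [Config.proj, LinearMap.smul_apply, LinearMap.sum_apply, h1, smul_smul,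
    LinearMap.zero_apply] at h2
  rw [Finset.sum_congr rfl (g := fun _ => (z : Fin p.n → ℂ)) (fun r _ => by
    rw [show (((c'.toHomUnits r)⁻¹ : ℂˣ) : ℂ) * c r = 1 from Units.inv_mul _, one_smul]),
    Finset.sum_const, Finset.card_univ, ← Nat.card_eq_fintype_card, ← Nat.cast_smul_eq_nsmul ℂ,
    smul_smul, inv_mul_cancel₀ card_cast_ne_zero, one_smul] at h2
  exact h2

theorem Config.proj_K (p : OverRep C.B) (ν : C.R →* ℂˣ) (k : C.Y.K) :
    p.ρ (k : G) * C.proj p ν = C.proj p ν * p.ρ (k : G) := by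
  unfold Config.proj
  rw [mul_smul_comm, smul_mul_assoc, Finset.mul_sum, Finset.sum_mul]
  congr 1
  refine Finset.sum_congr rfl fun r _ => ?_
  rw [mul_smul_comm, smul_mul_assoc, C.repR_apply, C.xe_K, C.pair_R r.2, Units.val_one, one_smul]

theorem Config.proj_H (p : OverRep C.B) (ν : C.R →* ℂˣ) {h : G} (hh : h ∈ C.H) :
    p.ρ h * C.proj p ν = C.proj p (ν.comp (C.tR (C.twistConj h⁻¹))) * p.ρ h := by
  unfold Config.proj
  rw [mul_smul_comm, smul_mul_assoc, Finset.mul_sum, Finset.sum_mul]
  congr 1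
  refine Fintype.sum_bijective _ (C.tR_bijective (C.twistConj h)) _ _ fun r => ?_
  rw [mul_smul_comm, smul_mul_assoc, C.repR_apply, C.repR_apply, C.xe_H p hh]
  congr 3
  rw [MonoidHom.comp_apply]
  congr 1
  exact Subtype.ext (C.αG_inv h r).symm

theorem Config.proj_tR_mul (ν : C.R →* ℂˣ) (g g' : G) :
    (ν.comp (C.tR (C.twistConj g))).comp (C.tR (C.twistConj g')) =
      ν.comp (C.tR (C.twistConj (g * g'))) :=
  MonoidHom.ext fun r => congrArg ν (Subtype.ext (C.αG_mul g g' r).symm)

theorem Config.trace_proj_conj (p : OverRep C.B) (ν : C.R →* ℂˣ) {h : G} (hh : h ∈ C.H) :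
    LinearMap.trace ℂ _ (C.proj p (ν.comp (C.tR (C.twistConj h)))) =
      LinearMap.trace ℂ _ (C.proj p ν) := by
  have h1 := C.proj_H p ν (inv_mem hh)
  rw [inv_inv] at h1
  have h2 : C.proj p (ν.comp (C.tR (C.twistConj h))) = p.ρ h⁻¹ * C.proj p ν * p.ρ h := by
    rw [h1, mul_assoc, ← map_mul, inv_mul_cancel, map_one, mul_one]
  rw [h2, LinearMap.trace_mul_comm ℂ (p.ρ h⁻¹ * C.proj p ν), ← mul_assoc, ← map_mul,
    mul_inv_cancel, map_one, one_mul]

theorem Config.trace_proj_op (p : OverRep C.B) (ν : C.R →* ℂˣ) (s : S)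
    (hinv : ∀ g, p.ρ.character (C.φ s g) = p.ρ.character g) :
    LinearMap.trace ℂ _ (C.proj p (ν.comp (C.tR (C.twistS s)))) =
      LinearMap.trace ℂ _ (C.proj p ν) := by
  unfold Config.proj
  simp only [map_smul, map_sum]
  congr 1
  refine Fintype.sum_bijective _ (C.tR_bijective (C.twistS s)) _ _ fun r => ?_
  congr 1
  have h := C.trace_op_eq s p hinv 1 r
  simp only [map_one, one_mul] at h
  exact h.symm

theorem Config.proj_one_cases (p : OverRep C.B) [p.ρ.IsIrreducible] :
    C.proj p 1 = 0 ∨ (C.proj p 1 = 1 ∧ C.Rel p) := by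
  haveI : Nontrivial (Fin p.n → ℂ) :=
    Module.nontrivial_of_finrank_pos (R := ℂ) (irreducible_finrank_pos p.ρ)
  have hcomm : ∀ g, C.proj p 1 * p.ρ g = p.ρ g * C.proj p 1 := fun g => by
    obtain ⟨k, hk, h, hh, rfl⟩ := C.top g
    have h1 := C.proj_H p 1 hh
    rw [MonoidHom.one_comp] at h1
    rw [map_mul, ← mul_assoc, ← C.proj_K p 1 ⟨k, hk⟩, mul_assoc, ← h1, mul_assoc]
  obtain ⟨c, hc⟩ := exists_smul_of_comm p.ρ _ hcomm
  have hi := C.proj_isIdempotent p 1
  rw [IsIdempotentElem, hc, smul_mul_smul_comm, mul_one] at hi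
  rcases mul_right_eq_self₀.mp (smul_one_injective hi) with h1 | h1
  · rw [h1, one_smul] at hc
    refine Or.inr ⟨hc, fun r hr => ?_⟩
    have h2 := C.repR_mul_proj p 1 ⟨r, hr⟩
    rwa [hc, mul_one, MonoidHom.one_apply, Units.val_one, one_smul] at h2
  · exact Or.inl (by rw [hc, h1, zero_smul])

theorem Config.trace_sum_R (p : OverRep C.B) [p.ρ.IsIrreducible] [Decidable (C.Rel p)] :
    ∑ r : C.R, LinearMap.trace ℂ _ (C.xe p r) =
      if C.Rel p then (Nat.card C.R : ℂ) * p.n else 0 := by
  have h : LinearMap.trace ℂ _ (C.proj p 1) =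
      (Nat.card C.R : ℂ)⁻¹ * ∑ r : C.R, LinearMap.trace ℂ _ (C.xe p r) := by
    simp [Config.proj, C.repR_apply]
  rw [eq_inv_mul_iff_mul_eq₀ card_cast_ne_zero] at h
  rw [← h]
  split_ifs with hR
  · rcases C.proj_one_cases p with h0 | ⟨h1, -⟩
    · exfalso
      haveI : Nontrivial (Fin p.n → ℂ) :=
        Module.nontrivial_of_finrank_pos (R := ℂ) (irreducible_finrank_pos p.ρ)
      have hone : C.proj p 1 = 1 := by
        simp only [Config.proj, MonoidHom.one_apply, inv_one, Units.val_one, one_smul,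
          C.repR_apply, fun r : C.R => hR r r.2, Finset.sum_const, Finset.card_univ]
        rw [← Nat.card_eq_fintype_card, ← Nat.cast_smul_eq_nsmul ℂ, smul_smul,
          inv_mul_cancel₀ card_cast_ne_zero, one_smul]
      exact one_ne_zero (hone.symm.trans h0)
    · rw [h1, LinearMap.trace_one, Module.finrank_fin_fun]
  · rcases C.proj_one_cases p with h0 | ⟨-, h1⟩
    · rw [h0, map_zero, mul_zero]
    · exact absurd h1 hR

theorem Config.comp_op_pow (ν : C.R →* ℂˣ) (s : S) {h : G} (hh : h ∈ C.H)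
    (he : ν.comp (C.tR (C.twistS s)) = ν.comp (C.tR (C.twistConj h))) (n : ℕ) (r : C.R) :
    ν (C.tR (C.twistS (s ^ n)) r) = ν (C.tR (C.twistConj (h ^ n)) r) := by
  induction n generalizing r with
  | zero =>
    simp only [pow_zero]
    exact congrArg ν (Subtype.ext ((C.αS_one r).trans (C.αG_one r).symm))
  | succ n ih =>
    calc ν (C.tR (C.twistS (s ^ (n + 1))) r)
        = ν (C.tR (C.twistS (s ^ n)) (C.tR (C.twistS s) r)) := by
          rw [pow_succ]
          exact congrArg ν (Subtype.ext (C.αS_mul _ _ _))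
      _ = ν (C.tR (C.twistS s) (C.tR (C.twistConj (h ^ n)) r)) := by
          rw [ih]
          exact congrArg ν (Subtype.ext (C.αS_αG (pow_mem hh n) s r).symm)
      _ = ν (C.tR (C.twistConj h) (C.tR (C.twistConj (h ^ n)) r)) := DFunLike.congr_fun he _
      _ = _ := by
          rw [pow_succ']
          exact congrArg ν (Subtype.ext (C.αG_mul h (h ^ n) r).symm)

theorem Config.fix_of_comp_eq (ν : C.R →* ℂˣ) (s : S) {h : G} (hh : h ∈ C.H)
    (he : ν.comp (C.tR (C.twistS s)) = ν.comp (C.tR (C.twistConj h))) :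
    ν.comp (C.tR (C.twistS s)) = ν := by
  have hcop : (Nat.card S).Coprime (orderOf h) :=
    C.coprime.coprime_dvd_right (orderOf_dvd_natCard h)
  obtain ⟨m, hm⟩ := exists_pow_eq_self_of_coprime hcop
  have h1 : ∀ r, ν (C.tR (C.twistConj (h ^ Nat.card S)) r) = ν r := fun r => by
    rw [← C.comp_op_pow ν s hh he, pow_card_eq_one']
    exact congrArg ν (Subtype.ext (C.αS_one r))
  have h2 : ∀ (j : ℕ) r, ν (C.tR (C.twistConj ((h ^ Nat.card S) ^ j)) r) = ν r := by
    intro j
    induction j with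
    | zero => intro r; rw [pow_zero]; exact congrArg ν (Subtype.ext (C.αG_one r))
    | succ j ih =>
      intro r
      rw [← ih r, ← h1 (C.tR (C.twistConj ((h ^ Nat.card S) ^ j)) r), pow_succ']
      exact congrArg ν (Subtype.ext (C.αG_mul _ _ r))
  rw [he]
  refine MonoidHom.ext fun r => ?_
  rw [MonoidHom.comp_apply, ← hm]
  exact h2 m r

theorem Config.eq_one_of_fixed (ν : C.R →* ℂˣ)
    (h : ∀ s, ν.comp (C.tR (C.twistS s)) = ν) : ν = 1 := by
  refine MonoidHom.ext fun r => ?_
  have hP : (∏ s, C.tR (C.twistS s) r : C.R) = 1 := by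
    refine Subtype.ext (C.free' _ fun s₀ => ?_)
    rw [Subgroup.val_finset_prod, map_prod]
    exact Fintype.prod_equiv (Equiv.mulLeft s₀) _ _ fun s => (C.αS_mul s₀ s r).symm
  have hs : ν r ^ Nat.card S = 1 := by
    have h1 := congrArg ν hP
    rw [map_one, map_prod] at h1
    rw [← h1, Nat.card_eq_fintype_card, ← Finset.card_univ, ← Finset.prod_const]
    exact Finset.prod_congr rfl fun s _ => (DFunLike.congr_fun (h s) r).symm
  have hd : Nat.card C.R ∣ Nat.card G :=
    (Subgroup.card_subgroup_dvd_card _).trans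
      ((Subgroup.card_quotient_dvd_card _).trans (Subgroup.card_subgroup_dvd_card _))
  have hG : ν r ^ Nat.card G = 1 := by
    rw [← map_pow, orderOf_dvd_iff_pow_eq_one.mp ((orderOf_dvd_natCard r).trans hd), map_one]
  have := pow_gcd_eq_one.mpr ⟨hs, hG⟩
  rwa [C.coprime, pow_one] at this

/-- An irreducible representation with invariant character is trivial on the radical. -/
theorem Config.rel_of_invariant (p : OverRep C.B) [p.ρ.IsIrreducible]
    (hinv : ∀ s g, p.ρ.character (C.φ s g) = p.ρ.character g) : C.Rel p := by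
  classical
  haveI : Nontrivial (Fin p.n → ℂ) :=
    Module.nontrivial_of_finrank_pos (R := ℂ) (irreducible_finrank_pos p.ρ)
  obtain ⟨ν, hν⟩ := C.exists_proj_ne p
  have htr : LinearMap.trace ℂ _ (C.proj p ν) ≠ 0 := fun h =>
    hν (LinearMap.IsIdempotentElem.eq_zero_of_trace_eq_zero (C.proj_isIdempotent p ν) h)
  haveI : Fintype C.H := Fintype.ofFinite _
  set Q := ∑ h : C.H, C.proj p (ν.comp (C.tR (C.twistConj (h : G)))) with hQ
  have hcomm : ∀ g, Q * p.ρ g = p.ρ g * Q := fun g => by
    obtain ⟨k, hk, h₀, hh, rfl⟩ := C.top g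
    have h1 : p.ρ h₀ * Q = Q * p.ρ h₀ := by
      rw [hQ, Finset.mul_sum, Finset.sum_mul]
      refine Fintype.sum_equiv (Equiv.mulRight (⟨h₀, hh⟩⁻¹ : C.H)) _ _ fun h => ?_
      rw [C.proj_H p _ hh, C.proj_tR_mul]
      rfl
    have h2 : p.ρ k * Q = Q * p.ρ k := by
      rw [hQ, Finset.mul_sum, Finset.sum_mul]
      exact Finset.sum_congr rfl fun h _ => C.proj_K p _ ⟨k, hk⟩
    rw [map_mul, ← mul_assoc, ← h2, mul_assoc, ← h1, mul_assoc]
  obtain ⟨c, hc⟩ := exists_smul_of_comm p.ρ Q hcomm
  have hc0 : c ≠ 0 := by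
    intro h
    have h1 : LinearMap.trace ℂ _ Q = 0 := by rw [hc, h, zero_smul, map_zero]
    rw [hQ, map_sum, Finset.sum_congr rfl (g := fun _ => LinearMap.trace ℂ _ (C.proj p ν))
      (fun x _ => C.trace_proj_conj p ν x.2), Finset.sum_const, Finset.card_univ,
      nsmul_eq_mul] at h1
    rcases mul_eq_zero.mp h1 with h2 | h2
    · exact Fintype.card_ne_zero (Nat.cast_eq_zero.mp h2)
    · exact htr h2
  have hfix : ∀ s, ν.comp (C.tR (C.twistS s)) = ν := by
    intro s
    set μ := ν.comp (C.tR (C.twistS s)) with hμ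
    have hμ0 : C.proj p μ ≠ 0 := fun h => htr (by
      rw [← C.trace_proj_op p ν s (hinv s), ← hμ, h, map_zero])
    have hex : ∃ h : C.H, μ = ν.comp (C.tR (C.twistConj (h : G))) := by
      by_contra hne
      have h1 : C.proj p μ * Q = 0 := by
        rw [hQ, Finset.mul_sum]
        exact Finset.sum_eq_zero fun h _ => by
          rw [C.proj_mul_proj, if_neg fun e => hne ⟨h, e⟩]
      rw [hc, mul_smul_comm, mul_one] at h1
      exact hμ0 ((smul_eq_zero.mp h1).resolve_left hc0)
    obtain ⟨h, he⟩ := hex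
    exact C.fix_of_comp_eq ν s h.2 he
  rw [C.eq_one_of_fixed ν hfix] at hν
  exact ((C.proj_one_cases p).resolve_left hν).2

end Cfsg.Lib.Char.SectionParity
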