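import Cfsg.Agent.Lib.Char.SectionParity.Isotypic
import Cfsg.Agent.Lib.Char.Clifford
import Cfsg.Agent.Lib.Char.Induced

/-!
# The ring of all representations over an invariant character of a normal subgroup
-/

set_option autoImplicit false
set_option linter.unusedSectionVars false
set_option linter.style.haveILetI false

namespace Cfsg.Lib.Char.SectionParity

open Cfsg Module Cfsg.Lib.Char
open scoped ComplexConjugate

universe u

/-- A normal subgroup with an irreducible representation of invariant character. -/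
structure Below (G : Type u) [Group G] [Fintype G] where
  L : Subgroup G
  normal : L.Normal
  m : ℕ
  σ : Representation ℂ L (Fin m → ℂ)
  irr : σ.IsIrreducible
  inv : ∀ (g : G) (l l' : L), (l' : G) = g * l * g⁻¹ → σ.character l' = σ.character l

variable {G : Type u} [Group G] [Fintype G] (B : Below G)

noncomputable instance : Fintype B.L := Fintype.ofFinite _
instance : B.L.Normal := B.normal
instance : B.σ.IsIrreducible := B.irr

/-- A representation whose restriction is a multiple of the given character. -/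
structure OverRep where
  n : ℕ
  ρ : Representation ℂ G (Fin n → ℂ)
  over : Iso B.σ (ρ.comp B.L.subtype)

/-- All these representations at once. -/
abbrev Tot : Type u := (p : OverRep B) → Module.End ℂ (Fin p.n → ℂ)

/-- A group element acting in all these representations. -/
def act : G →* Tot B where
  toFun g p := p.ρ g
  map_one' := funext fun p => map_one p.ρ
  map_mul' a b := funext fun p => map_mul p.ρ a b

theorem act_apply (g : G) (p : OverRep B) : act B g p = p.ρ g := rfl

/-- A group element acting in all these representations, as a unit. -/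
def U : G →* (Tot B)ˣ := (act B).toHomUnits

theorem U_val (g : G) : ((U B g : (Tot B)ˣ) : Tot B) = act B g := rfl

theorem exists_overRep_ne : ∃ p : OverRep B, p.n ≠ 0 := by
  obtain ⟨n, ρ, hρ⟩ := isCharacter_indFun B.L (isCharacter_character B.σ)
  have hres : ∀ l : B.L, ρ.character l = (B.L.index : ℂ) * B.σ.character l := by
    intro l
    rw [hρ, indFun]
    have h : ∀ x : G, extendByZero B.L B.σ.character (x⁻¹ * l * x) = B.σ.character l := fun x => by
      have hm : x⁻¹ * (l : G) * x ∈ B.L := B.normal.conj_mem' _ l.2 x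
      rw [extendByZero_of_mem B.L _ hm]
      exact B.inv x⁻¹ l _ (by simp)
    simp only [h, Finset.sum_const, Finset.card_univ, nsmul_eq_mul]
    rw [← Nat.card_eq_fintype_card, ← B.L.card_mul_index, Nat.cast_mul, ← mul_assoc,
      ← mul_assoc, inv_mul_cancel₀ card_cast_ne_zero, one_mul]
  refine ⟨⟨n, ρ, _, hres⟩, fun h => ?_⟩
  change n = 0 at h
  subst h
  have h1 := hres 1
  rw [OneMemClass.coe_one, Representation.char_one, Representation.char_one] at h1
  simp only [Module.finrank_fin_fun, Nat.cast_zero] at h1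
  rcases mul_eq_zero.mp h1.symm with h2 | h2
  · exact Subgroup.index_ne_zero_of_finite (Nat.cast_eq_zero.mp h2)
  · have := irreducible_finrank_pos B.σ
    rw [Module.finrank_fin_fun, Nat.cast_eq_zero.mp h2] at this
    exact lt_irrefl _ this

noncomputable def someRep : OverRep B := (exists_overRep_ne B).choose

theorem someRep_ne : (someRep B).n ≠ 0 := (exists_overRep_ne B).choose_spec

instance : Nonempty (Fin (someRep B).n) := ⟨⟨0, Nat.pos_of_ne_zero (someRep_ne B)⟩⟩

theorem m_ne_zero : (B.m : ℂ) ≠ 0 := by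
  have := irreducible_finrank_pos B.σ
  rw [Module.finrank_fin_fun] at this
  exact Nat.cast_ne_zero.mpr this.ne'

/-- A combination of elements of the normal subgroup. -/
noncomputable def span : (B.L → ℂ) →ₗ[ℂ] Tot B where
  toFun c := ∑ l, c l • act B l
  map_add' c c' := by simp [add_smul, Finset.sum_add_distrib]
  map_smul' a c := by simp [Finset.smul_sum, smul_smul]

theorem span_apply (c : B.L → ℂ) : span B c = ∑ l, c l • act B l := rfl

theorem span_eq_zero {c : B.L → ℂ} (h : ∑ l, c l • B.σ l = 0) : span B c = 0 := by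
  funext p
  rw [span_apply, Finset.sum_apply]
  exact iso_vanish B.σ p.over c h

theorem span_reflect {c : B.L → ℂ} (h : span B c = 0) : ∑ l, c l • B.σ l = 0 := by
  have h1 : (span B c) (someRep B) = 0 := by rw [h]; rfl
  rw [span_apply, Finset.sum_apply] at h1
  exact iso_reflect B.σ (someRep B).over c h1

/-- The coefficients of an operator on the small space. -/
noncomputable def coef (X : Module.End ℂ (Fin B.m → ℂ)) : B.L → ℂ :=
  fun l => (B.m : ℂ) / Nat.card B.L * LinearMap.trace ℂ _ (X * B.σ l⁻¹)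

theorem sum_coef (X : Module.End ℂ (Fin B.m → ℂ)) : ∑ l, coef B X l • B.σ l = X := by
  unfold coef
  rw [Finset.sum_congr rfl (g := fun l => ((B.m : ℂ) / Nat.card B.L) •
    (LinearMap.trace ℂ _ (X * B.σ l⁻¹) • B.σ l)) (fun l _ => (smul_smul _ _ _).symm),
    ← Finset.smul_sum, fourier B.σ X, smul_smul, div_mul_div_comm, mul_comm (B.m : ℂ),
    div_self (mul_ne_zero card_cast_ne_zero (m_ne_zero B)), one_smul]

theorem sum_sub_smul (c c' : B.L → ℂ) :
    ∑ l, (c - c') l • B.σ l = ∑ l, c l • B.σ l - ∑ l, c' l • B.σ l := by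
  rw [← Finset.sum_sub_distrib]
  exact Finset.sum_congr rfl fun l _ => by rw [Pi.sub_apply]; module

/-- The copy of the small matrix algebra. -/
noncomputable def j (X : Module.End ℂ (Fin B.m → ℂ)) : Tot B := span B (coef B X)

theorem span_eq_j (c : B.L → ℂ) : span B c = j B (∑ l, c l • B.σ l) := by
  rw [j, ← sub_eq_zero, ← map_sub]
  refine span_eq_zero B ?_
  rw [sum_sub_smul, sum_coef, sub_self]

theorem j_add (X Y : Module.End ℂ (Fin B.m → ℂ)) : j B (X + Y) = j B X + j B Y := by
  show span B _ = span B _ + span B _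
  rw [← map_add]
  congr 1
  funext l
  simp [coef, add_mul, mul_add]

theorem j_smul (a : ℂ) (X : Module.End ℂ (Fin B.m → ℂ)) : j B (a • X) = a • j B X := by
  show span B _ = a • span B _
  rw [← map_smul]
  congr 1
  funext l
  simp [coef]
  ring

/-- The copy of the small matrix algebra, linearly. -/
noncomputable def jLin : Module.End ℂ (Fin B.m → ℂ) →ₗ[ℂ] Tot B where
  toFun := j B
  map_add' := j_add B
  map_smul' := j_smul B

theorem j_sigma (l : B.L) : j B (B.σ l) = act B l := by
  classical
  have h := span_eq_j B (fun x => if x = l then 1 else 0)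
  simpa [span_apply, ite_smul] using h.symm

theorem j_one : j B 1 = 1 := by
  have h := j_sigma B 1
  rwa [map_one, OneMemClass.coe_one, map_one] at h

theorem j_mul (X Y : Module.End ℂ (Fin B.m → ℂ)) : j B (X * Y) = j B X * j B Y := by
  conv_lhs => rw [← sum_coef B X, ← sum_coef B Y]
  show _ = span B _ * span B _
  rw [Finset.sum_mul_sum, span_apply, span_apply, Finset.sum_mul_sum]
  change jLin B _ = _
  simp only [map_sum]
  refine Finset.sum_congr rfl fun a _ => Finset.sum_congr rfl fun b _ => ?_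
  rw [smul_mul_smul_comm, map_smul, smul_mul_smul_comm, ← map_mul B.σ]
  show _ • j B _ = _
  rw [j_sigma, Subgroup.coe_mul, map_mul]

theorem j_injective : Function.Injective (j B) := by
  intro X Y h
  have h1 : span B (coef B X - coef B Y) = 0 := by
    rw [map_sub]
    exact sub_eq_zero.mpr h
  have h2 := span_reflect B h1
  rw [sum_sub_smul, sum_coef, sum_coef] at h2
  exact sub_eq_zero.mp h2

/-- The copy of the small matrix algebra, as an algebra map. -/
noncomputable def jHom : Module.End ℂ (Fin B.m → ℂ) →ₐ[ℂ] Tot B :=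
  AlgHom.ofLinearMap (jLin B) (j_one B) (j_mul B)

/-- Units of the small algebra inside. -/
noncomputable def ju : (Module.End ℂ (Fin B.m → ℂ))ˣ →* (Tot B)ˣ := Units.map (jHom B).toMonoidHom

theorem ju_val (X : (Module.End ℂ (Fin B.m → ℂ))ˣ) :
    ((ju B X : (Tot B)ˣ) : Tot B) = j B X := rfl

theorem ju_sigma (l : B.L) : ju B (B.σ.toHomUnits l) = U B l :=
  Units.ext (j_sigma B l)

theorem commute_j {y : Tot B} (hy : ∀ l : B.L, Commute y (act B l))
    (X : Module.End ℂ (Fin B.m → ℂ)) : Commute y (j B X) := by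
  show Commute y (span B (coef B X))
  rw [span_apply]
  exact Commute.sum_right _ _ _ fun l _ => (hy l).smul_right _

/-- Scalars. -/
noncomputable def sc : ℂˣ →* (Tot B)ˣ := Units.map (algebraMap ℂ (Tot B)).toMonoidHom

theorem sc_val (c : ℂˣ) : ((sc B c : (Tot B)ˣ) : Tot B) = (c : ℂ) • 1 :=
  Algebra.algebraMap_eq_smul_one _

theorem sc_comm (c : ℂˣ) (y : (Tot B)ˣ) : sc B c * y = y * sc B c :=
  Units.ext (Algebra.commutes _ _)

theorem sc_injective : Function.Injective (sc B) := by
  intro a b h
  apply Units.ext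
  have h1 := congrArg (fun y : (Tot B)ˣ => (y : Tot B) (someRep B)) h
  simp only [sc_val, Pi.smul_apply, Pi.one_apply] at h1
  exact smul_one_injective h1

/-- An element of the piece at `k`. -/
structure InE (k : G) (y : (Tot B)ˣ) : Prop where
  comm : ∀ l : B.L, y * U B l = U B l * y
  mem : ∃ X : (Module.End ℂ (Fin B.m → ℂ))ˣ, y = U B k * ju B X

theorem InE.commute_act {k : G} {y : (Tot B)ˣ} (h : InE B k y) (l : B.L) :
    Commute (y : Tot B) (act B l) := congrArg Units.val (h.comm l)

theorem InE.commute_ju {k : G} {y : (Tot B)ˣ} (h : InE B k y)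
    (X : (Module.End ℂ (Fin B.m → ℂ))ˣ) : y * ju B X = ju B X * y :=
  Units.ext (commute_j B (h.commute_act B) _)

theorem InE.mul {a b : G} {y z : (Tot B)ˣ} (hy : InE B a y) (hz : InE B b z) :
    InE B (a * b) (y * z) := by
  refine ⟨fun l => by rw [mul_assoc, hz.comm, ← mul_assoc, hy.comm, mul_assoc], ?_⟩
  obtain ⟨X, hX⟩ := hy.mem
  obtain ⟨Y, hY⟩ := hz.mem
  refine ⟨Y * X, ?_⟩
  calc y * z = U B a * (ju B X * z) := by rw [hX, mul_assoc]
    _ = U B a * (z * ju B X) := by rw [hz.commute_ju]
    _ = _ := by rw [hY, map_mul, map_mul]; simp only [mul_assoc]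

theorem InE.inv {a : G} {y : (Tot B)ˣ} (hy : InE B a y) : InE B a⁻¹ y⁻¹ := by
  have hc : ∀ l : B.L, y⁻¹ * U B l = U B l * y⁻¹ := fun l => by
    rw [eq_mul_inv_iff_mul_eq, mul_assoc, ← hy.comm, inv_mul_cancel_left]
  refine ⟨hc, ?_⟩
  obtain ⟨X, hX⟩ := hy.mem
  refine ⟨X⁻¹, ?_⟩
  have h1 : (ju B X)⁻¹ * y = U B a := by
    rw [← map_inv, ← hy.commute_ju, hX, mul_assoc, ← map_mul, mul_inv_cancel, map_one, mul_one]
  rw [map_inv, map_inv, ← h1, mul_inv_rev, inv_inv, mul_assoc, mul_inv_cancel, mul_one]

theorem InE.mul_mem {a : G} {y : (Tot B)ˣ} (hy : InE B a y) (l : B.L) : InE B (a * l) y := by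
  obtain ⟨X, hX⟩ := hy.mem
  refine ⟨hy.comm, (B.σ.toHomUnits l)⁻¹ * X, ?_⟩
  rw [map_mul, map_mul, map_inv, ju_sigma]
  simp only [mul_assoc, mul_inv_cancel_left, hX]

theorem inE_sc (c : ℂˣ) : InE B 1 (sc B c) := by
  refine ⟨fun l => sc_comm B c _, Units.map (algebraMap ℂ _).toMonoidHom c, Units.ext ?_⟩
  rw [map_one, one_mul]
  exact ((jHom B).commutes _).symm

theorem InE.scalar {a : G} (ha : a ∈ B.L) {y : (Tot B)ˣ} (hy : InE B a y) :
    ∃ c : ℂˣ, y = sc B c := by
  have h1 : InE B 1 y := by
    have := hy.mul_mem B ⟨a⁻¹, inv_mem ha⟩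
    simpa using this
  obtain ⟨X, hX⟩ := h1.mem
  rw [map_one, one_mul] at hX
  have hcomm : ∀ l, (X : Module.End ℂ (Fin B.m → ℂ)) * B.σ l = B.σ l * X := fun l => by
    apply j_injective B
    rw [j_mul, j_mul, j_sigma]
    have h := h1.commute_act B l
    rwa [hX] at h
  obtain ⟨c, hc⟩ := exists_smul_of_comm B.σ _ hcomm
  haveI : Nontrivial (Fin B.m → ℂ) :=
    Module.nontrivial_of_finrank_pos (R := ℂ) (irreducible_finrank_pos B.σ)
  have hc0 : c ≠ 0 := fun h => X.ne_zero (by rw [hc, h, zero_smul])
  refine ⟨Units.mk0 c hc0, Units.ext ?_⟩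
  rw [hX, ju_val, hc, sc_val, j_smul, j_one, Units.val_mk0]

theorem exists_inE (k : G) : ∃ y : (Tot B)ˣ, InE B k y := by
  let τ : Representation ℂ B.L (Fin B.m → ℂ) :=
    B.σ.comp (MulAut.conjNormal k).toMonoidHom
  obtain ⟨e⟩ := nonempty_equiv_of_character_eq B.σ τ (funext fun l =>
    (B.inv k l (MulAut.conjNormal k l) (MulAut.conjNormal_apply k l)).symm)
  let T : (Module.End ℂ (Fin B.m → ℂ))ˣ :=
    ⟨e.toLinearEquiv.toLinearMap, e.toLinearEquiv.symm.toLinearMap,
      LinearMap.ext fun x => e.toLinearEquiv.apply_symm_apply x,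
      LinearMap.ext fun x => e.toLinearEquiv.symm_apply_apply x⟩
  have hT : ∀ l : B.L, T * B.σ.toHomUnits l = B.σ.toHomUnits (MulAut.conjNormal k l) * T :=
    fun l => Units.ext (LinearMap.ext fun x =>
      LinearMap.congr_fun (e.toIntertwiningMap.isIntertwining' l) x)
  refine ⟨U B k * ju B T⁻¹, fun l => ?_, T⁻¹, rfl⟩
  have h1 := congrArg (ju B) (hT ((MulAut.conjNormal k).symm l))
  rw [MulEquiv.apply_symm_apply, map_mul, map_mul, ju_sigma, ju_sigma,
    MulAut.conjNormal_symm_apply] at h1
  rw [map_inv]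
  have h2 : (ju B T)⁻¹ * U B l = U B (k⁻¹ * (l : G) * k) * (ju B T)⁻¹ := by
    rw [inv_mul_eq_iff_eq_mul, ← mul_assoc, h1, mul_inv_cancel_right]
  rw [mul_assoc, h2, map_mul, map_mul, map_inv]
  simp only [mul_assoc, mul_inv_cancel_left]

end Cfsg.Lib.Char.SectionParity
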