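import Cfsg.Agent.Lib.Char.SectionParity.Baer

/-!
# The operators attached to a coprime operator group without fixed points on the section
-/

set_option autoImplicit false
set_option linter.unusedSectionVars false
set_option linter.style.haveILetI false

namespace Cfsg.Lib.Char.SectionParity

open Cfsg Module Cfsg.Lib.Char
open scoped ComplexConjugate

universe u v

variable {G : Type u} [Group G] [Fintype G]

theorem trace_U_mul_j {B : Below G} (k : G) (X : Module.End ℂ (Fin B.m → ℂ)) (p : OverRep B) :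
    LinearMap.trace ℂ _ ((act B k * j B X) p) =
      ∑ l : B.L, coef B X l * p.ρ.character (k * l) := by
  show LinearMap.trace ℂ _ ((act B k * span B (coef B X)) p) = _
  rw [span_apply, Pi.mul_apply, Finset.sum_apply, Finset.mul_sum, map_sum]
  refine Finset.sum_congr rfl fun l _ => ?_
  rw [Pi.smul_apply, mul_smul_comm, map_smul, act_apply, act_apply, ← map_mul, smul_eq_mul]
  rfl

theorem exists_trace_form {B : Below G} {k : G} {y : (Tot B)ˣ} (hy : InE B k y) :
    ∃ a : B.L → ℂ, ∀ p : OverRep B,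
      LinearMap.trace ℂ _ ((y : Tot B) p) = ∑ l : B.L, a l * p.ρ.character (k * l) := by
  obtain ⟨X, hX⟩ := hy.mem
  exact ⟨coef B X, fun p => by rw [hX]; exact trace_U_mul_j k _ p⟩

/-- The whole setting: bottom, section, complement and operators. -/
structure Config (G : Type u) [Group G] [Fintype G] (S : Type v) [Group S] where
  B : Below G
  Y : Layer B
  H : Subgroup G
  inf : Y.K ⊓ H = B.L
  top : ∀ g : G, ∃ k ∈ Y.K, ∃ h ∈ H, g = k * h
  φ : S →* MulAut G
  mapL : ∀ s, ∀ l ∈ B.L, φ s l ∈ B.L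
  mapK : ∀ s, ∀ k ∈ Y.K, φ s k ∈ Y.K
  inv : ∀ (s : S) (l l' : B.L), (l' : G) = φ s l → B.σ.character l' = B.σ.character l
  triv : ∀ s, ∀ h ∈ H, φ s h * h⁻¹ ∈ B.L
  coprime : (Nat.card S).Coprime (Nat.card G)
  free : ∀ k ∈ Y.K, (∀ s, φ s k * k⁻¹ ∈ B.L) → k ∈ B.L

variable {S : Type v} [Group S] [Fintype S] (C : Config G S)

theorem Config.L_le_H : C.B.L ≤ C.H := C.inf ▸ inf_le_right

/-- A representation twisted by an operator. -/
def Config.twistRep (s : S) (p : OverRep C.B) : OverRep C.B where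
  n := p.n
  ρ := p.ρ.comp (C.φ s).toMonoidHom
  over := by
    obtain ⟨a, ha⟩ := p.over
    refine ⟨a, fun l => ?_⟩
    have h := ha ⟨C.φ s l, C.mapL s l l.2⟩
    rw [C.inv s l _ rfl] at h
    exact h

theorem eval_congr {B : Below G} (F : Tot B) {n : ℕ}
    {ρ ρ' : Representation ℂ G (Fin n → ℂ)} (h : ρ = ρ') (o : Iso B.σ (ρ.comp B.L.subtype))
    (o' : Iso B.σ (ρ'.comp B.L.subtype)) : F ⟨n, ρ, o⟩ = F ⟨n, ρ', o'⟩ := by
  subst h
  rfl

/-- The twist given by an operator. -/
def Config.twistS (s : S) : Twist C.Y where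
  α := C.φ s
  Φ :=
    { toFun := fun F p => F (C.twistRep s p)
      map_one' := rfl
      map_mul' := fun _ _ => rfl
      map_zero' := rfl
      map_add' := fun _ _ => rfl
      commutes' := fun _ => rfl }
  map_act _ := rfl
  mapL := C.mapL s
  surjL l hl := ⟨C.φ s⁻¹ l, C.mapL s⁻¹ l hl, by
    rw [← MulAut.mul_apply, ← map_mul, mul_inv_cancel, map_one]; rfl⟩
  mapK := C.mapK s

theorem Config.twistS_apply (s : S) (y : (Tot C.B)ˣ) (p : OverRep C.B) :
    (((C.twistS s).Φu y : (Tot C.B)ˣ) : Tot C.B) p = (y : Tot C.B) (C.twistRep s p) := rfl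

/-- The twist given by conjugation. -/
def Config.twistConj (g : G) : Twist C.Y where
  α := MulAut.conj g
  Φ :=
    { toFun := fun F => act C.B g * F * act C.B g⁻¹
      map_one' := by rw [mul_one, ← map_mul, mul_inv_cancel, map_one]
      map_mul' := fun a b => by
        have h1 : act C.B g⁻¹ * act C.B g = 1 := by rw [← map_mul, inv_mul_cancel, map_one]
        calc act C.B g * (a * b) * act C.B g⁻¹
            = act C.B g * a * (act C.B g⁻¹ * act C.B g) * b * act C.B g⁻¹ := by
              rw [h1, mul_one]; simp only [mul_assoc]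
          _ = _ := by simp only [mul_assoc]
      map_zero' := by rw [mul_zero, zero_mul]
      map_add' := fun a b => by rw [mul_add, add_mul]
      commutes' := fun c => by
        rw [← Algebra.commutes, mul_assoc, ← map_mul, mul_inv_cancel, map_one, mul_one] }
  map_act x := by
    show act C.B g * act C.B x * act C.B g⁻¹ = act C.B (MulAut.conj g x)
    rw [← map_mul, ← map_mul, MulAut.conj_apply]
  mapL l hl := C.B.normal.conj_mem l hl g
  surjL l hl := ⟨g⁻¹ * l * g, C.B.normal.conj_mem' l hl g, by simp [mul_assoc]⟩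
  mapK k hk := C.Y.normal.conj_mem k hk g

theorem Config.twistConj_apply (g : G) (y : (Tot C.B)ˣ) :
    (C.twistConj g).Φu y = U C.B g * y * (U C.B g)⁻¹ := Units.ext (by
  rw [Units.val_mul, Units.val_mul, U_val, ← map_inv, U_val]; rfl)

theorem Config.αV_mk (t : Twist C.Y) (k : C.Y.K) :
    t.αV (k : Sect C.Y) = ((⟨t.α (k : G), t.mapK k k.2⟩ : C.Y.K) : Sect C.Y) := rfl

/-- The operators form a family of twists without common fixed points. -/
theorem Config.exists_ops : ∃ O : Ops C.Y S, O.t = C.twistS := by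
  refine ⟨⟨C.twistS, fun s s' a => ?_, C.coprime, fun v hv => ?_⟩, rfl⟩
  · refine Lifts.ext ?_ (Units.ext ?_)
    · obtain ⟨k, hk⟩ := QuotientGroup.mk_surjective a.v
      show (C.twistS (s * s')).αV a.v = (C.twistS s).αV ((C.twistS s').αV a.v)
      rw [← hk]
      refine congrArg QuotientGroup.mk (Subtype.ext ?_)
      show C.φ (s * s') k = C.φ s (C.φ s' k)
      rw [map_mul]; rfl
    · funext p
      have hρ : p.ρ.comp (C.φ (s * s')).toMonoidHom =
          (p.ρ.comp (C.φ s).toMonoidHom).comp (C.φ s').toMonoidHom := by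
        rw [map_mul]; rfl
      exact eval_congr (B := C.B) (n := p.n) (a.y : Tot C.B) hρ
        (C.twistRep (s * s') p).over (C.twistRep s' (C.twistRep s p)).over
  · obtain ⟨k, rfl⟩ := QuotientGroup.mk_surjective v
    rw [QuotientGroup.eq_one_iff, Subgroup.mem_subgroupOf]
    refine C.free k k.2 fun s => ?_
    have h := hv s
    rw [C.αV_mk, eq_comm, QuotientGroup.eq, Subgroup.mem_subgroupOf] at h
    have h1 := C.B.normal.conj_mem _ h (k : G)
    simpa [Config.twistS] using h1

theorem Config.conjH_comm (h : G) (hh : h ∈ C.H) (s : S) (a : Lifts C.Y) :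
    (C.twistS s).lift ((C.twistConj h).lift a) = (C.twistConj h).lift ((C.twistS s).lift a) := by
  have hl := C.triv s h hh
  set l : C.B.L := ⟨_, hl⟩ with hldef
  have he : C.φ s h = (l : G) * h := by simp [hldef]
  refine Lifts.ext ?_ ?_
  · obtain ⟨k, hk⟩ := QuotientGroup.mk_surjective a.v
    show (C.twistS s).αV ((C.twistConj h).αV a.v) = (C.twistConj h).αV ((C.twistS s).αV a.v)
    rw [← hk]
    simp only [C.αV_mk]
    rw [QuotientGroup.eq, Subgroup.mem_subgroupOf]
    have hX : h * C.φ s k * h⁻¹ ∈ C.Y.K := C.Y.normal.conj_mem _ (C.mapK s k k.2) h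
    have h1 := C.Y.comm (l : G) (C.Y.le l.2) _ (inv_mem hX)
    show (C.φ s (h * k * h⁻¹))⁻¹ * (h * C.φ s k * h⁻¹) ∈ C.B.L
    rw [map_mul, map_mul, map_inv, he]
    convert h1 using 1
    group
  · show (C.twistS s).Φu ((C.twistConj h).Φu a.y) = (C.twistConj h).Φu ((C.twistS s).Φu a.y)
    rw [C.twistConj_apply, map_mul, map_mul, map_inv, Twist.map_U,
      show (C.twistS s).α h = (l : G) * h from he, map_mul, mul_inv_rev]
    obtain ⟨k, _, hk⟩ := ((C.twistConj h).inV ((C.twistS s).inV a.mem) : InV C.Y _ _)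
    have hc := hk.comm l
    rw [C.twistConj_apply] at hc ⊢
    calc U C.B (l : G) * U C.B h * (C.twistS s).Φu a.y * ((U C.B h)⁻¹ * (U C.B (l : G))⁻¹)
        = U C.B (l : G) * (U C.B h * (C.twistS s).Φu a.y * (U C.B h)⁻¹) * (U C.B (l : G))⁻¹ := by
          simp only [mul_assoc]
      _ = _ := by rw [← hc, mul_inv_cancel_right]

theorem Config.exists_x : ∃ x : Sect C.Y → (Tot C.B)ˣ, (∀ v, InV C.Y v (x v)) ∧
    (∀ v w, x v * x w = sc C.B (half C.Y v w) * x (v * w)) ∧
    (∀ (s : S) v, (C.twistS s).Φu (x v) = x ((C.twistS s).αV v)) ∧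
    ∀ h ∈ C.H, ∀ v, U C.B h * x v * (U C.B h)⁻¹ = x ((C.twistConj h).αV v) := by
  obtain ⟨O, hO⟩ := C.exists_ops
  obtain ⟨x, h1, h2, h3, h4⟩ := O.exists_section
  refine ⟨x, h1, h2, fun s v => ?_, fun h hh v => ?_⟩
  · rw [← hO]
    exact h3 s v
  · rw [← C.twistConj_apply]
    refine h4 (C.twistConj h) (fun s a => ?_) v
    rw [hO]
    exact C.conjH_comm h hh s a

end Cfsg.Lib.Char.SectionParity
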