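import Cfsg.Agent.Lib.Char.SectionParity.Relevant

/-!
# The involution inverting the section, and the class function it gives on the complement
-/

set_option autoImplicit false
set_option linter.unusedSectionVars false
set_option linter.style.haveILetI false

namespace Cfsg.Lib.Char.SectionParity

open Cfsg Module Cfsg.Lib.Char
open scoped ComplexConjugate

universe u v

variable {G : Type u} [Group G] [Fintype G] {S : Type v} [Group S] [Fintype S] (C : Config G S)

noncomputable instance : Fintype C.H := Fintype.ofFinite _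

/-- The sum of the section. -/
noncomputable def Config.T (p : OverRep C.B) : Module.End ℂ (Fin p.n → ℂ) := ∑ v, C.xe p v

theorem Config.T_mul_xe (p : OverRep C.B) (w : Sect C.Y) :
    C.T p * C.xe p w = C.xe p w⁻¹ * C.T p := by
  rw [Config.T, Finset.sum_mul, Finset.mul_sum]
  refine Fintype.sum_equiv (Equiv.mulRight (w * w)) _ _ fun v => ?_
  rw [Equiv.coe_mulRight, C.xe_mul, C.xe_mul]
  congr 2
  · rw [half_inv_left, half_mul_right, half_mul_right, half_self, mul_one, mul_one,
      eq_inv_iff_mul_eq_one, half_swap]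
  · rw [mul_comm w⁻¹, mul_assoc, mul_assoc, mul_inv_cancel, mul_one]

theorem Config.T_H (p : OverRep C.B) {h : G} (hh : h ∈ C.H) :
    p.ρ h * C.T p = C.T p * p.ρ h := by
  rw [Config.T, Finset.sum_mul, Finset.mul_sum]
  exact Fintype.sum_bijective _ (C.twistConj h).αV_bijective _ _ fun v => C.xe_H p hh v

open Classical in
theorem Config.sum_half (u : Sect C.Y) :
    ∑ v, (half C.Y v u : ℂ) = if u ∈ C.R then (Nat.card (Sect C.Y) : ℂ) else 0 := by
  let f : Sect C.Y →* ℂ :=
    { toFun := fun v => (half C.Y v u : ℂ)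
      map_one' := by rw [half_one_left, Units.val_one]
      map_mul' := fun a b => by rw [half_mul_left, Units.val_mul] }
  have hiff : f = 1 ↔ u ∈ C.R := by
    constructor
    · intro h w
      have h1 : half C.Y w u = 1 := Units.val_eq_one.mp (DFunLike.congr_fun h w)
      have h2 := pair_swap C.Y u w
      rwa [← half_sq C.Y w u, h1, one_mul, mul_one] at h2
    · intro h
      refine MonoidHom.ext fun w => ?_
      show (half C.Y w u : ℂ) = 1
      rw [half, C.pair_R h, one_pow, Units.val_one]
  show ∑ v, f v = _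
  rw [sum_hom_units]
  simp only [hiff, ← Nat.card_eq_fintype_card]
  split_ifs <;> simp

theorem Config.T_sq (p : OverRep C.B) (hR : C.Rel p) :
    C.T p * C.T p = ((Nat.card (Sect C.Y) : ℂ) * Nat.card C.R) • 1 := by
  classical
  have h1 : C.T p * C.T p = ∑ u, (∑ v, (half C.Y v u : ℂ)) • C.xe p u := by
    rw [Config.T, Finset.sum_mul_sum]
    simp only [Finset.sum_smul]
    rw [Finset.sum_comm (γ := Sect C.Y)]
    refine Eq.trans ?_ Finset.sum_comm
    rw [Finset.sum_comm]
    refine Finset.sum_congr rfl fun v _ => ?_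
    refine Fintype.sum_equiv (Equiv.mulLeft v) _ _ fun w => ?_
    rw [Equiv.coe_mulLeft, C.xe_mul, half_mul_right, half_self, one_mul]
  rw [h1, Finset.sum_congr rfl (g := fun u => if u ∈ C.R then
      (Nat.card (Sect C.Y) : ℂ) • (1 : Module.End ℂ (Fin p.n → ℂ)) else 0)
    (fun u _ => by rw [C.sum_half]; split_ifs with h <;> simp [hR u, *])]
  rw [Finset.sum_ite, Finset.sum_const_zero, add_zero, Finset.sum_const,
    ← Fintype.card_subtype, ← Nat.card_eq_fintype_card, ← Nat.cast_smul_eq_nsmul ℂ, smul_smul,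
    mul_comm]

/-- The normalising constant. -/
noncomputable def Config.cst : ℂ :=
  (IsAlgClosed.exists_eq_mul_self (((Nat.card (Sect C.Y) : ℂ) * Nat.card C.R)⁻¹)).choose

theorem Config.cst_sq : C.cst * C.cst = ((Nat.card (Sect C.Y) : ℂ) * Nat.card C.R)⁻¹ :=
  (IsAlgClosed.exists_eq_mul_self _).choose_spec.symm

/-- The involution inverting the section. -/
noncomputable def Config.τ (p : OverRep C.B) : Module.End ℂ (Fin p.n → ℂ) := C.cst • C.T p

theorem Config.τ_sq (p : OverRep C.B) (hR : C.Rel p) : C.τ p * C.τ p = 1 := by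
  rw [Config.τ, smul_mul_smul_comm, C.T_sq p hR, smul_smul, C.cst_sq,
    inv_mul_cancel₀ (mul_ne_zero card_cast_ne_zero card_cast_ne_zero), one_smul]

theorem Config.τ_mul_xe (p : OverRep C.B) (w : Sect C.Y) :
    C.τ p * C.xe p w = C.xe p w⁻¹ * C.τ p := by
  rw [Config.τ, smul_mul_assoc, C.T_mul_xe, mul_smul_comm]

theorem Config.τ_H (p : OverRep C.B) {h : G} (hh : h ∈ C.H) :
    p.ρ h * C.τ p = C.τ p * p.ρ h := by
  rw [Config.τ, smul_mul_assoc, mul_smul_comm, C.T_H p hh]

/-- The class function of the complement. -/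
noncomputable def Config.f (p : OverRep C.B) : C.H → ℂ :=
  fun h => LinearMap.trace ℂ _ (C.τ p * p.ρ (h : G))

theorem Config.f_eq_sum (p : OverRep C.B) (h : C.H) :
    C.f p h = C.cst * ∑ v, LinearMap.trace ℂ _ (p.ρ (h : G) * C.xe p v) := by
  rw [Config.f, LinearMap.trace_mul_comm, Config.τ, mul_smul_comm, map_smul, smul_eq_mul,
    Config.T, Finset.mul_sum, map_sum]

theorem Config.f_congr {p q : OverRep C.B} (h : p.ρ.character = q.ρ.character) :
    C.f p = C.f q := by
  funext x
  rw [C.f_eq_sum, C.f_eq_sum, Finset.sum_congr rfl fun v _ => C.trace_congr h (x : G) v]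

theorem Config.φ_mem_H (s : S) {h : G} (hh : h ∈ C.H) : C.φ s h ∈ C.H := by
  have h1 := C.H.mul_mem (C.L_le_H (C.triv s h hh)) hh
  rwa [inv_mul_cancel_right] at h1

theorem Config.f_op (p : OverRep C.B) (s : S) (h : C.H) :
    C.f p ⟨C.φ s h, C.φ_mem_H s h.2⟩ = C.f (C.twistRep s p) h := by
  rw [C.f_eq_sum, C.f_eq_sum]
  congr 1
  exact (Fintype.sum_bijective _ (C.twistS s).αV_bijective _ _
    fun v => (C.trace_op s p (h : G) v).symm).symm

theorem Config.f_invariant (p : OverRep C.B)
    (hinv : ∀ s g, p.ρ.character (C.φ s g) = p.ρ.character g) (s : S) (h : C.H) :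
    C.f p ⟨C.φ s h, C.φ_mem_H s h.2⟩ = C.f p h := by
  rw [C.f_op, C.f_congr (q := p) (funext (hinv s) : (C.twistRep s p).ρ.character = _)]

theorem Config.rel_twist (p : OverRep C.B) (hR : C.Rel p) (s : S) :
    C.Rel (C.twistRep s p) := fun r hr => by
  have h1 : C.xe (C.twistRep s p) r = C.xe p (C.αS s r) := by
    show _ = ((C.x (C.αS s r) : (Tot C.B)ˣ) : Tot C.B) p
    rw [← C.x_op, C.twistS_apply]
    rfl
  rw [h1]
  exact hR _ ((C.twistS s).mem_R C hr)

/-- Parity of the class function. -/
theorem Config.f_parity (p : OverRep C.B) (hR : C.Rel p) :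
    ∃ e : C.H → ℂ, IsCharacter C.H e ∧ ∀ h : C.H, C.f p h = 2 * e h - p.ρ.character h := by
  set E : Module.End ℂ (Fin p.n → ℂ) := (2⁻¹ : ℂ) • (1 + C.τ p) with hE
  have hEE : E * E = E := by
    rw [hE, smul_mul_smul_comm, add_mul, mul_add, mul_add, one_mul, mul_one, C.τ_sq p hR,
      one_mul]
    module
  have hEh : ∀ h : C.H, p.ρ (h : G) * E = E * p.ρ (h : G) := fun h => by
    rw [hE, mul_smul_comm, smul_mul_assoc, mul_add, add_mul, mul_one, one_mul, C.τ_H p h.2]
  let q : Subrepresentation (p.ρ.comp C.H.subtype) :=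
    { toSubmodule := LinearMap.range E
      apply_mem_toSubmodule := by
        rintro h _ ⟨z, rfl⟩
        exact ⟨p.ρ (h : G) z, (LinearMap.congr_fun (hEh h) z).symm⟩ }
  refine ⟨q.toRepresentation.character, isCharacter_character _, fun h => ?_⟩
  have h1 : q.toRepresentation.character h = LinearMap.trace ℂ _ (E * p.ρ (h : G)) := by
    have h2 : q.toRepresentation h =
        LinearMap.rangeRestrict E ∘ₗ (p.ρ (h : G) ∘ₗ q.toSubmodule.subtype) := by
      refine LinearMap.ext fun ⟨z, y, hy⟩ => Subtype.ext ?_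
      subst hy
      show p.ρ (h : G) (E y) = E (p.ρ (h : G) (E y))
      exact ((LinearMap.congr_fun (hEh h) y).trans
        (LinearMap.congr_fun hEE _).symm).trans
        (congrArg E (LinearMap.congr_fun (hEh h) y).symm)
    show LinearMap.trace ℂ q.toSubmodule (q.toRepresentation h) = _
    rw [h2, LinearMap.trace_comp_comm']
    rw [LinearMap.comp_assoc,
      show q.toSubmodule.subtype ∘ₗ LinearMap.rangeRestrict E = E from LinearMap.ext fun _ => rfl,
      ← Module.End.mul_eq_comp, LinearMap.trace_mul_comm]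
  rw [h1, hE, smul_mul_assoc, map_smul, add_mul, one_mul, map_add, smul_eq_mul]
  show LinearMap.trace ℂ _ (C.τ p * p.ρ (h : G)) = _
  unfold Representation.character
  ring

theorem Config.f_isGeneralized (p : OverRep C.B) (hR : C.Rel p) :
    IsGeneralizedCharacter C.H (C.f p) := by
  obtain ⟨e, he, hf⟩ := C.f_parity p hR
  refine ⟨e + e, fun h => p.ρ.character h, he.add he,
    (isCharacter_character p.ρ).comp C.H.subtype, funext fun h => ?_⟩
  rw [hf]
  simp only [Pi.sub_apply, Pi.add_apply]
  ring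

/-- Two-sided multiplication on homomorphisms. -/
noncomputable def lop {V : Type*} [AddCommGroup V] [Module ℂ V] {W : Type*} [AddCommGroup W]
    [Module ℂ W] (A : Module.End ℂ W) (B : Module.End ℂ V) : Module.End ℂ (V →ₗ[ℂ] W) where
  toFun X := A ∘ₗ X ∘ₗ B
  map_add' X X' := by simp [LinearMap.add_comp, LinearMap.comp_add]
  map_smul' a X := by simp [LinearMap.smul_comp, LinearMap.comp_smul]

theorem lop_mul {V : Type*} [AddCommGroup V] [Module ℂ V] {W : Type*} [AddCommGroup W]
    [Module ℂ W] (A A' : Module.End ℂ W) (B B' : Module.End ℂ V) :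
    lop A B * lop A' B' = lop (A * A') (B' * B) :=
  LinearMap.ext fun _ => rfl

theorem lop_smul {V : Type*} [AddCommGroup V] [Module ℂ V] {W : Type*} [AddCommGroup W]
    [Module ℂ W] (A : Module.End ℂ W) (B : Module.End ℂ V) (a b : ℂ) :
    lop (a • A) (b • B) = (a * b) • lop A B := by
  refine LinearMap.ext fun X => ?_
  show (a • A) ∘ₗ X ∘ₗ (b • B) = (a * b) • (A ∘ₗ X ∘ₗ B)
  simp [LinearMap.smul_comp, LinearMap.comp_smul, smul_smul, mul_comm]

theorem trace_lop {V : Type*} [AddCommGroup V] [Module ℂ V] [FiniteDimensional ℂ V]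
    {W : Type*} [AddCommGroup W] [Module ℂ W] [FiniteDimensional ℂ W]
    (A : Module.End ℂ W) (B : Module.End ℂ V) :
    LinearMap.trace ℂ _ (lop A B) = LinearMap.trace ℂ _ A * LinearMap.trace ℂ _ B := by
  set e := dualTensorHomEquiv ℂ V W with he
  have h : lop A B = e.conj (TensorProduct.map (Module.Dual.transpose (R := ℂ) B) A) := by
    have h1 : lop A B ∘ₗ e.toLinearMap =
        e.toLinearMap ∘ₗ TensorProduct.map (Module.Dual.transpose (R := ℂ) B) A := by
      refine TensorProduct.ext' fun f m => LinearMap.ext fun x => ?_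
      simp [he, lop, Module.Dual.transpose_apply]
    rw [LinearEquiv.conj_apply, ← h1, LinearMap.comp_assoc]
    simp
  rw [h, LinearMap.trace_conj', LinearMap.trace_tensorProduct', LinearMap.trace_transpose',
    mul_comm]

end Cfsg.Lib.Char.SectionParity
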